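import Groth.Agent.CotTLib.Koszul
import Mathlib.RingTheory.Artinian.Ring
import Mathlib.RingTheory.Flat.Basic
import Mathlib.RingTheory.Noetherian.OfPrime
import Mathlib.RingTheory.KrullDimension.NonZeroDivisors
import Mathlib.LinearAlgebra.Basis.VectorSpace
import Mathlib.LinearAlgebra.TensorProduct.RightExactness
import Mathlib.Algebra.Module.Torsion.Basic
import Mathlib.RingTheory.Nakayama

/-!
# Flat modules over local rings with nilpotent maximal ideal
-/

set_option autoImplicit false
set_option maxHeartbeats 1600000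

universe u v w

open TensorProduct IsLocalRing

noncomputable section

namespace DefLib

section Flat

variable {C : Type u} [CommRing C] {N : Type v} {M : Type w}
  [AddCommGroup N] [Module C N] [AddCommGroup M] [Module C M]

/-- Multiplication `N ⊗ I → N`. -/
def multMap (N : Type v) [AddCommGroup N] [Module C N] (I : Ideal C) : N ⊗[C] I →ₗ[C] N :=
  (TensorProduct.rid C N).toLinearMap ∘ₗ LinearMap.lTensor N I.subtype

lemma multMap_injective [Module.Flat C N] (I : Ideal C) : Function.Injective (multMap N I) :=
  (TensorProduct.rid C N).injective.comp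
    (Module.Flat.lTensor_preserves_injective_linearMap (M := N) I.subtype Subtype.val_injective)

lemma exists_multMap_eq (I : Ideal C) {x : N} (hx : x ∈ I • (⊤ : Submodule C N)) :
    ∃ y, multMap N I y = x := by
  refine Submodule.smul_induction_on hx (fun c hc m _ => ⟨m ⊗ₜ ⟨c, hc⟩, rfl⟩) ?_
  rintro a b ⟨u, rfl⟩ ⟨v, rfl⟩
  exact ⟨u + v, map_add _ _ _⟩

/-- For a surjection onto a flat module, `ker π ∩ I N = I ker π`. -/
lemma ker_inf_smul_le [Module.Flat C M] (π : N →ₗ[C] M) (hπ : Function.Surjective π) (I : Ideal C) :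
    LinearMap.ker π ⊓ I • (⊤ : Submodule C N) ≤ I • LinearMap.ker π := by
  rintro x ⟨hx1, hx2⟩
  obtain ⟨y, rfl⟩ := exists_multMap_eq I hx2
  have hc : ∀ z, multMap M I (LinearMap.rTensor I π z) = π (multMap N I z) := fun z => by
    induction z using TensorProduct.induction_on with
    | zero => simp
    | add a b ha hb => simp only [map_add, ha, hb]
    | tmul a c => exact (map_smul π (c : C) a).symm
  have h0 : LinearMap.rTensor I π y = 0 :=
    multMap_injective I (((hc y).trans hx1).trans (map_zero _).symm)
  obtain ⟨z, rfl⟩ := (rTensor_exact (M := LinearMap.ker π) I (LinearMap.exact_subtype_ker_map π) hπ y).1 h0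
  clear h0 hx1 hx2
  induction z using TensorProduct.induction_on with
  | zero => simp
  | add a b ha hb => simp only [map_add]; exact add_mem ha hb
  | tmul a c => exact Submodule.smul_mem_smul c.2 a.2

end Flat

section Local

variable {C : Type u} [CommRing C] [IsLocalRing C] {N : Type v} {M : Type w} {P : Type*}
  [AddCommGroup N] [Module C N] [AddCommGroup M] [Module C M] [AddCommGroup P] [Module C P]

/-- A map into a module killed by `m` extends along a map injective modulo `m`. -/
lemma exists_extend_of_mod (f : M →ₗ[C] N)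
    (hf : ∀ x, f x ∈ maximalIdeal C • (⊤ : Submodule C N) → x ∈ maximalIdeal C • (⊤ : Submodule C M))
    (g : M →ₗ[C] P) (hP : ∀ c ∈ maximalIdeal C, ∀ p : P, c • p = 0) :
    ∃ h : N →ₗ[C] P, h ∘ₗ f = g := by
  letI : Field (C ⧸ maximalIdeal C) := Ideal.Quotient.field _
  let m := maximalIdeal C
  let Mb := M ⧸ (m • ⊤ : Submodule C M)
  let Nb := N ⧸ (m • ⊤ : Submodule C N)
  have hle : (m • ⊤ : Submodule C M) ≤ (m • ⊤ : Submodule C N).comap f := by
    rw [← Submodule.map_le_iff_le_comap, Submodule.map_smul'']
    exact Submodule.smul_mono le_rfl le_top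
  let fb : Mb →ₗ[C] Nb := Submodule.mapQ _ _ f hle
  let fb' : Mb →ₗ[C ⧸ m] Nb := fb.extendScalarsOfSurjective Ideal.Quotient.mk_surjective
  have hinj : Function.Injective fb' := (injective_iff_map_eq_zero fb').2 fun x hx => by
    obtain ⟨x, rfl⟩ := Submodule.Quotient.mk_surjective _ x
    exact (Submodule.Quotient.mk_eq_zero _).2 (hf x ((Submodule.Quotient.mk_eq_zero _).1 hx))
  obtain ⟨r, hr⟩ := fb'.exists_leftInverse_of_injective (LinearMap.ker_eq_bot.2 hinj)
  let gb : Mb →ₗ[C] P := Submodule.liftQ _ g (by
    rw [Submodule.smul_le]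
    intro c hc x _
    rw [LinearMap.mem_ker, map_smul]
    exact hP c hc _)
  refine ⟨gb ∘ₗ r.restrictScalars C ∘ₗ Submodule.mkQ _, LinearMap.ext fun x => ?_⟩
  change gb (r (fb' (Submodule.Quotient.mk x))) = g x
  rw [show r (fb' (Submodule.Quotient.mk x)) = Submodule.Quotient.mk x from LinearMap.congr_fun hr _]
  rfl

/-- A map onto a module killed by `m`, from one killed by `m`, has a linear section. -/
lemma exists_section_of_killed (π : M →ₗ[C] P) (hπ : Function.Surjective π)
    (hM : ∀ c ∈ maximalIdeal C, ∀ x : M, c • x = 0) :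
    ∃ s : P →ₗ[C] M, π ∘ₗ s = LinearMap.id := by
  have hP : ∀ c ∈ maximalIdeal C, ∀ p : P, c • p = 0 := fun c hc p => by
    obtain ⟨x, rfl⟩ := hπ p
    rw [← map_smul, hM c hc, map_zero]
  letI : Field (C ⧸ maximalIdeal C) := Ideal.Quotient.field _
  have h1 : Module.IsTorsionBySet C M (maximalIdeal C) := fun x c => hM c.1 c.2 x
  have h2 : Module.IsTorsionBySet C P (maximalIdeal C) := fun x c => hP c.1 c.2 x
  letI := h1.module
  letI := h2.module
  haveI : IsScalarTower C (C ⧸ maximalIdeal C) M := h1.isScalarTower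
  haveI : IsScalarTower C (C ⧸ maximalIdeal C) P := h2.isScalarTower
  obtain ⟨s, hs⟩ := (π.extendScalarsOfSurjective (S := C ⧸ maximalIdeal C)
    Ideal.Quotient.mk_surjective).exists_rightInverse_of_surjective (LinearMap.range_eq_top.2 hπ)
  exact ⟨s.restrictScalars C, LinearMap.ext fun p => LinearMap.congr_fun hs p⟩

/-- A flat module over a local ring with nilpotent maximal ideal is free. -/
theorem free_of_flat_of_nilpotent (hnil : IsNilpotent (maximalIdeal C)) [Module.Flat C M] : Module.Free C M := by
  letI : Field (C ⧸ maximalIdeal C) := Ideal.Quotient.field _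
  let m := maximalIdeal C
  let Mb := M ⧸ (m • ⊤ : Submodule C M)
  obtain ⟨⟨ι, b⟩⟩ := Module.Free.exists_basis (R := C ⧸ m) (M := Mb)
  choose x hx using fun i => Submodule.Quotient.mk_surjective _ (b i)
  let φ : (ι →₀ C) →ₗ[C] M := Finsupp.linearCombination C x
  have hφ : ∀ f, Submodule.Quotient.mk (φ f) =
      Finsupp.linearCombination (C ⧸ m) b (Finsupp.mapRange (Ideal.Quotient.mk m) (map_zero _) f) := fun f => by
    induction f using Finsupp.induction_linear with
    | zero => simp
    | add f g hf hg =>
      rw [map_add, Submodule.Quotient.mk_add, hf, hg, Finsupp.mapRange_add (map_add _), map_add]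
    | single i c =>
      simp only [φ, Finsupp.linearCombination_single, Finsupp.mapRange_single, Submodule.Quotient.mk_smul, hx]
      rfl
  have hsurj : Function.Surjective φ := by
    obtain ⟨n, hn⟩ := hnil
    have key : ∀ j, ⊤ ≤ LinearMap.range φ ⊔ m ^ j • (⊤ : Submodule C M) := by
      intro j
      induction j with
      | zero => simp
      | succ j ih =>
        have h1 : (⊤ : Submodule C M) ≤ LinearMap.range φ ⊔ m • ⊤ := fun y _ => by
          let c := b.repr (Submodule.Quotient.mk y)
          obtain ⟨f, hf⟩ := Finsupp.mapRange_surjective (Ideal.Quotient.mk m) (map_zero _)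
            Ideal.Quotient.mk_surjective c
          have : Submodule.Quotient.mk (φ f) = (Submodule.Quotient.mk y : Mb) := by
            rw [hφ, hf]; exact b.linearCombination_repr _
          refine Submodule.mem_sup.2 ⟨φ f, ⟨f, rfl⟩, y - φ f, (Submodule.Quotient.eq _).1 this.symm, by abel⟩
        refine ih.trans (sup_le le_sup_left ?_)
        calc m ^ j • (⊤ : Submodule C M) ≤ m ^ j • (LinearMap.range φ ⊔ m • ⊤) := Submodule.smul_mono le_rfl h1
          _ ≤ _ := by
            rw [Submodule.smul_sup, ← Submodule.mul_smul, ← pow_succ]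
            exact sup_le_sup_right Submodule.smul_le_right _
    intro y
    have := key n (Submodule.mem_top (x := y))
    rw [hn, Submodule.zero_eq_bot, Submodule.bot_smul, sup_bot_eq] at this
    exact this
  have hker : LinearMap.ker φ ≤ m • (⊤ : Submodule C (ι →₀ C)) := fun f hf => by
    have h0 := hφ f
    rw [show φ f = 0 from hf, Submodule.Quotient.mk_zero, eq_comm] at h0
    have hz := b.linearIndependent.finsuppLinearCombination_injective
      (h0.trans (map_zero _).symm)
    rw [← f.sum_single]
    refine Submodule.sum_mem _ fun i _ => ?_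
    rw [← Finsupp.smul_single_one]
    refine Submodule.smul_mem_smul ?_ Submodule.mem_top
    exact Ideal.Quotient.eq_zero_iff_mem.1 (DFunLike.congr_fun hz i)
  have hK : LinearMap.ker φ = ⊥ := by
    have h1 : LinearMap.ker φ ≤ m • LinearMap.ker φ :=
      (le_inf le_rfl hker).trans (ker_inf_smul_le φ hsurj m)
    obtain ⟨n, hn⟩ := hnil
    have key : ∀ j, LinearMap.ker φ ≤ m ^ j • LinearMap.ker φ := by
      intro j
      induction j with
      | zero => simp
      | succ j ih =>
        refine ih.trans ?_
        rw [pow_succ, Submodule.mul_smul]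
        exact Submodule.smul_mono le_rfl h1
    refine eq_bot_iff.2 ((key n).trans ?_)
    rw [hn, Submodule.zero_eq_bot, Submodule.bot_smul]
  exact Module.Free.of_equiv (LinearEquiv.ofBijective φ ⟨LinearMap.ker_eq_bot.1 hK, hsurj⟩)

/-- A map from a flat module to a flat module injective modulo `m` is split injective with flat cokernel. -/
theorem splitInjective_of_injective_mod (hnil : IsNilpotent (maximalIdeal C)) [Module.Flat C N] (f : M →ₗ[C] N)
    (hf : ∀ x, f x ∈ maximalIdeal C • (⊤ : Submodule C N) → x ∈ maximalIdeal C • (⊤ : Submodule C M)) :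
    Function.Injective f ∧ Module.Flat C (N ⧸ LinearMap.range f) := by
  haveI := free_of_flat_of_nilpotent (M := N) hnil
  obtain ⟨h, hh⟩ := exists_extend_of_mod f hf (Submodule.mkQ (maximalIdeal C • (⊤ : Submodule C M)))
    (fun c hc p => by
      obtain ⟨y, rfl⟩ := Submodule.mkQ_surjective _ p
      rw [← map_smul]
      exact (Submodule.Quotient.mk_eq_zero _).2 (Submodule.smul_mem_smul hc Submodule.mem_top))
  obtain ⟨H, hH⟩ := Module.projective_lifting_property
    (Submodule.mkQ (maximalIdeal C • (⊤ : Submodule C M))) h (Submodule.mkQ_surjective _)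
  let ν : Module.End C M := LinearMap.id - H ∘ₗ f
  have hν : ∀ j x, (ν ^ j) x ∈ maximalIdeal C ^ j • (⊤ : Submodule C M) := by
    intro j
    induction j with
    | zero => intro x; simp
    | succ j ih =>
      intro x
      have h1 : ν x ∈ maximalIdeal C • (⊤ : Submodule C M) := by
        rw [← Submodule.Quotient.mk_eq_zero]
        change Submodule.mkQ _ (x - H (f x)) = 0
        rw [map_sub, show Submodule.mkQ _ (H (f x)) = h (f x) from LinearMap.congr_fun hH (f x),
          show h (f x) = Submodule.mkQ _ x from LinearMap.congr_fun hh x, sub_self]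
      rw [show (ν ^ (j + 1)) x = (ν ^ j) (ν x) by rw [pow_succ]; rfl]
      generalize ν x = y at h1
      refine Submodule.smul_induction_on h1 (fun c hc z _ => ?_) (fun a b ha hb => by rw [map_add]; exact add_mem ha hb)
      rw [map_smul, pow_succ', Submodule.mul_smul]
      exact Submodule.smul_mem_smul hc (ih z)
  have hnu : IsNilpotent ν := by
    obtain ⟨n, hn⟩ := hnil
    refine ⟨n, LinearMap.ext fun x => ?_⟩
    have := hν n x
    rw [hn, Submodule.zero_eq_bot, Submodule.bot_smul] at this
    exact this
  have hu : IsUnit (H ∘ₗ f : Module.End C M) := by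
    have := hnu.isUnit_one_sub
    rwa [show (1 : Module.End C M) - ν = H ∘ₗ f from sub_sub_cancel _ _] at this
  obtain ⟨u, hu⟩ := hu
  let r : N →ₗ[C] M := (u⁻¹ : (Module.End C M)ˣ).1 ∘ₗ H
  have hr : ∀ x, r (f x) = x := fun x => by
    have := LinearMap.congr_fun (show (u⁻¹ : (Module.End C M)ˣ).1 * u.1 = 1 from u.inv_mul) x
    rw [hu] at this
    exact this
  refine ⟨fun x y hxy => by rw [← hr x, ← hr y, hxy], ?_⟩
  let s : (N ⧸ LinearMap.range f) →ₗ[C] N := Submodule.liftQ _ (LinearMap.id - f ∘ₗ r) (by
    rintro _ ⟨x, rfl⟩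
    change f x - f (r (f x)) = 0
    rw [hr, sub_self])
  exact Module.Flat.of_retract s (Submodule.mkQ _) (LinearMap.ext fun y => by
    obtain ⟨y, rfl⟩ := Submodule.mkQ_surjective _ y
    change Submodule.Quotient.mk (y - f (r y)) = Submodule.Quotient.mk y
    rw [Submodule.Quotient.eq]
    exact ⟨-r y, by rw [map_neg]; abel⟩)

end Local

section Sequences

variable {C : Type u} [CommRing C] [IsLocalRing C] {A : Type v} [CommRing A] [Algebra C A]

lemma smul_top_eq_map (I : Ideal C) (K : Ideal A) (x : A ⧸ K) :
    x ∈ I • (⊤ : Submodule C (A ⧸ K)) ↔ x ∈ (I.map (algebraMap C A)).map (Ideal.Quotient.mk K) := by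
  rw [Ideal.smul_top_eq_map, Ideal.map_map]
  rfl

open CotTLib in
/-- Regular sequences lift along nilpotent thickenings of the base, and the quotient stays flat. -/
theorem isRegElem_and_flat (hnil : IsNilpotent (maximalIdeal C)) [Module.Flat C A] {n : ℕ} (a : Fin n → A)
    (h : IsRegElem (fun i => Ideal.Quotient.mk ((maximalIdeal C).map (algebraMap C A)) (a i))) :
    IsRegElem a ∧ Module.Flat C (A ⧸ Ideal.span (Set.range a)) := by
  let q := Ideal.Quotient.mk ((maximalIdeal C).map (algebraMap C A))
  have hq : ∀ k, pre (fun i => q (a i)) k = (pre a k).map q := fun k => by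
    rw [pre, pre, Ideal.map_span, Set.image_image]
  have step : ∀ k, (hk : k < n) → Module.Flat C (A ⧸ pre a k) →
      (∀ x, x * a ⟨k, hk⟩ ∈ pre a k → x ∈ pre a k) ∧ Module.Flat C (A ⧸ pre a (k + 1)) := by
    intro k hk hflat
    let f : (A ⧸ pre a k) →ₗ[C] (A ⧸ pre a k) := LinearMap.mulRight C (Ideal.Quotient.mk _ (a ⟨k, hk⟩))
    obtain ⟨hinj, hcok⟩ := splitInjective_of_injective_mod hnil f (fun x hx => by
      obtain ⟨x, rfl⟩ := Ideal.Quotient.mk_surjective x
      rw [smul_top_eq_map] at hx ⊢
      change Ideal.Quotient.mk _ x * Ideal.Quotient.mk _ (a ⟨k, hk⟩) ∈ _ at hx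
      rw [← map_mul] at hx
      rw [Ideal.mem_quotient_iff_mem_sup] at hx ⊢
      have h1 : q x ∈ pre (fun i => q (a i)) k := by
        refine h ⟨k, hk⟩ (q x) ?_
        rw [hq, ← map_mul]
        obtain ⟨y, hy, z, hz, hyz⟩ := Submodule.mem_sup.1 hx
        rw [← hyz, map_add, Ideal.Quotient.eq_zero_iff_mem.2 hy, zero_add]
        exact Ideal.mem_map_of_mem q hz
      rw [hq] at h1
      obtain ⟨z, hz, hzx⟩ := (Ideal.mem_map_iff_of_surjective q Ideal.Quotient.mk_surjective).1 h1
      exact Submodule.mem_sup.2 ⟨x - z, Ideal.Quotient.eq.1 hzx.symm, z, hz, sub_add_cancel x z⟩)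
    refine ⟨fun x hx => ?_, ?_⟩
    · rw [← Ideal.Quotient.eq_zero_iff_mem] at hx ⊢
      refine hinj ?_
      rw [map_zero]
      exact (map_mul (Ideal.Quotient.mk (pre a k)) x (a ⟨k, hk⟩)).symm.trans hx
    · have hle : pre a k ≤ pre a (k + 1) :=
        Ideal.span_mono (Set.image_mono fun j (hj : (j : ℕ) < k) => Nat.lt_succ_of_lt hj)
      let π : (A ⧸ pre a k) →ₗ[C] (A ⧸ pre a (k + 1)) := (Ideal.Quotient.factorₐ C hle).toLinearMap
      have hker : LinearMap.ker π = LinearMap.range f := by
        have hsplit : pre a (k + 1) = pre a k ⊔ Ideal.span {a ⟨k, hk⟩} := by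
          rw [pre, pre, ← Ideal.span_union]
          congr 1
          ext y
          simp only [Set.mem_image, Set.mem_ofPred_eq, Set.mem_union, Set.mem_singleton_iff]
          constructor
          · rintro ⟨j, hj, rfl⟩
            rcases Nat.lt_succ_iff_lt_or_eq.1 hj with hj | hj
            · exact Or.inl ⟨j, hj, rfl⟩
            · exact Or.inr (congrArg a (Fin.ext hj))
          · rintro (⟨j, hj, rfl⟩ | rfl)
            · exact ⟨j, Nat.lt_succ_of_lt hj, rfl⟩
            · exact ⟨⟨k, hk⟩, Nat.lt_succ_self k, rfl⟩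
        ext z
        obtain ⟨z, rfl⟩ := Ideal.Quotient.mk_surjective z
        constructor
        · intro hz
          have hz' : z ∈ pre a (k + 1) := Ideal.Quotient.eq_zero_iff_mem.1 (hz : Ideal.Quotient.mk _ z = 0)
          rw [hsplit] at hz'
          obtain ⟨y, hy, w, hw, rfl⟩ := Submodule.mem_sup.1 hz'
          obtain ⟨c, rfl⟩ := Ideal.mem_span_singleton'.1 hw
          refine ⟨Ideal.Quotient.mk _ c, ?_⟩
          rw [map_add, Ideal.Quotient.eq_zero_iff_mem.2 hy, zero_add, map_mul]
          rfl
        · rintro ⟨c, hc⟩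
          obtain ⟨c, rfl⟩ := Ideal.Quotient.mk_surjective c
          rw [← hc]
          change Ideal.Quotient.mk _ (c * a ⟨k, hk⟩) = 0
          rw [Ideal.Quotient.eq_zero_iff_mem, hsplit]
          exact Submodule.mem_sup_right (Ideal.mem_span_singleton'.2 ⟨c, rfl⟩)
      exact Module.Flat.of_linearEquiv ((Submodule.quotEquivOfEq _ _ hker.symm).trans
        (π.quotKerEquivOfSurjective (Ideal.Quotient.factor_surjective hle))).symm
  have flat : ∀ k, k ≤ n → Module.Flat C (A ⧸ pre a k) := by
    intro k
    induction k with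
    | zero =>
      intro _
      have h0 : pre a 0 = ⊥ := by
        rw [pre, Ideal.span_eq_bot]
        rintro _ ⟨j, hj, rfl⟩
        exact absurd hj (Nat.not_lt_zero _)
      exact Module.Flat.of_linearEquiv ((Submodule.quotEquivOfEqBot _ h0).restrictScalars C)
    | succ k ih => exact fun hk => (step k hk (ih (Nat.le_of_succ_le hk))).2
  refine ⟨fun i x hx => (step i i.2 (flat i i.2.le)).1 x hx, ?_⟩
  have hn : pre a n = Ideal.span (Set.range a) := by
    rw [pre, show {j : Fin n | (j : ℕ) < n} = Set.univ from Set.eq_univ_of_forall fun j => j.2, Set.image_univ]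
  rw [← hn]
  exact flat n le_rfl

/-- The list form of `isRegElem_and_flat`. -/
theorem isWeaklyRegular_and_flat (hnil : IsNilpotent (maximalIdeal C)) [Module.Flat C A] {n : ℕ} (a : Fin n → A)
    (h : RingTheory.Sequence.IsWeaklyRegular (A ⧸ (maximalIdeal C).map (algebraMap C A))
      (List.ofFn fun i => Ideal.Quotient.mk ((maximalIdeal C).map (algebraMap C A)) (a i))) :
    RingTheory.Sequence.IsWeaklyRegular A (List.ofFn a) ∧ Module.Flat C (A ⧸ Ideal.span (Set.range a)) := by
  have conv : ∀ {R : Type v} [CommRing R] (b : Fin n → R),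
      RingTheory.Sequence.IsWeaklyRegular R (List.ofFn b) ↔ CotTLib.IsRegElem b := by
    intro R _ b
    rw [CotTLib.isWeaklyRegular_iff_isRegElem]
    have cast : ∀ (l : ℕ) (h : l = n), CotTLib.IsRegElem (fun i : Fin l => b (Fin.cast h i)) ↔ CotTLib.IsRegElem b := by
      rintro l rfl; exact Iff.rfl
    rw [show (fun i : Fin (List.ofFn b).length => (List.ofFn b)[i]) =
      fun i => b (Fin.cast List.length_ofFn i) from funext fun i => List.getElem_ofFn _]
    exact cast _ _
  obtain ⟨h1, h2⟩ := isRegElem_and_flat hnil a ((conv _).1 h)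
  exact ⟨(conv _).2 h1, h2⟩

end Sequences

section Nilpotent

variable {R : Type u} [CommRing R]

/-- A ring with a finitely generated nilpotent ideal and Noetherian quotient is Noetherian. -/
theorem isNoetherianRing_of_nilpotent {I : Ideal R} (hI : I.FG) (hnil : IsNilpotent I)
    [IsNoetherianRing (R ⧸ I)] : IsNoetherianRing R := by
  refine IsNoetherianRing.of_prime fun P hP => ?_
  have hle : I ≤ P := fun x hx => by
    obtain ⟨n, hn⟩ := hnil
    exact hP.mem_of_pow_mem n (by
      have := Ideal.pow_mem_pow hx n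
      rw [hn] at this
      rw [(this : x ^ n = 0)]
      exact zero_mem _)
  refine Submodule.fg_of_fg_map_of_fg_inf_ker (I.mkQ) ?_ ?_
  · have h := Submodule.FG.restrictScalars_of_surjective (R := R) (IsNoetherian.noetherian (P.map (Ideal.Quotient.mk I)))
      Ideal.Quotient.mk_surjective
    have heq : (Submodule.restrictScalars R (P.map (Ideal.Quotient.mk I)) : Submodule R (R ⧸ I)) = Submodule.map I.mkQ P := by
      refine SetLike.ext fun x => ?_
      rw [Submodule.restrictScalars_mem, Ideal.mem_map_iff_of_surjective _ Ideal.Quotient.mk_surjective,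
        Submodule.mem_map]
      rfl
    exact heq ▸ h
  · rw [Submodule.ker_mkQ, inf_eq_right.2 hle]
    exact hI

/-- Dividing by a nilpotent ideal does not change the dimension. -/
theorem ringKrullDim_quotient_of_le_nilradical {I : Ideal R} (hI : I ≤ nilradical R) :
    ringKrullDim (R ⧸ I) = ringKrullDim R := by
  rw [ringKrullDim_quotient]
  have : PrimeSpectrum.zeroLocus (I : Set R) = Set.univ :=
    Set.eq_univ_of_forall fun p => fun x hx => (nilradical_le_prime p.asIdeal) (hI hx)
  rw [this, ringKrullDim]
  exact Order.krullDim_eq_of_orderIso OrderIso.Set.univ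

end Nilpotent

end DefLib
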