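import Groth.Agent.DefLib.Lift
import Groth.Agent.S0440
import Groth.Prelude.Def_ArtFun4
import Mathlib.AlgebraicGeometry.Morphisms.ClosedImmersion
import Mathlib.AlgebraicGeometry.Morphisms.Flat
import Mathlib.AlgebraicGeometry.Pullbacks

/-!
# Extensions of deformations of affine schemes are algebraic lifts
-/

set_option autoImplicit false
set_option maxHeartbeats 1600000

universe u

open CategoryTheory CategoryTheory.Limits AlgebraicGeometry
open scoped TensorProduct

noncomputable section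

namespace DefLib

/-- A square of rings with a surjection is cocartesian when the opposite map is surjective with the induced kernel. -/
lemma isPushout_of_surjective {R S E T : CommRingCat.{u}} (f : R ⟶ S) (a : R ⟶ E) (b : S ⟶ T) (π : E ⟶ T)
    (w : f ≫ b = a ≫ π) (hf : Function.Surjective f.hom) (hπ : Function.Surjective π.hom)
    (hker : RingHom.ker π.hom ≤ (RingHom.ker f.hom).map a.hom) : IsPushout f a b π := by
  have wsq : ∀ c : PushoutCocone f a, ∀ r, c.inl.hom (f.hom r) = c.inr.hom (a.hom r) := fun c r =>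
    congrArg (fun g : R ⟶ c.pt => g.hom r) c.condition
  have hk : ∀ c : PushoutCocone f a, RingHom.ker π.hom ≤ RingHom.ker c.inr.hom := fun c => by
    refine hker.trans (Ideal.map_le_iff_le_comap.2 fun r hr => ?_)
    rw [Ideal.mem_comap, RingHom.mem_ker, ← wsq, show f.hom r = 0 from hr, map_zero]
  refine IsPushout.of_isColimit' ⟨w⟩ (PushoutCocone.IsColimit.mk w
    (fun c => CommRingCat.ofHom (π.hom.liftOfSurjective hπ ⟨c.inr.hom, hk c⟩)) ?_ ?_ ?_)
  · intro c
    ext s
    obtain ⟨r, rfl⟩ := hf s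
    have h1 : b.hom (f.hom r) = π.hom (a.hom r) := congrArg (fun g : R ⟶ T => g.hom r) w
    change π.hom.liftOfSurjective hπ ⟨c.inr.hom, hk c⟩ (b.hom (f.hom r)) = c.inl.hom (f.hom r)
    rw [h1, RingHom.liftOfSurjective_comp_apply]
    exact (wsq c r).symm
  · intro c
    ext e
    exact RingHom.liftOfSurjective_comp_apply _ _ _ _
  · intro c m _ hm
    ext t
    obtain ⟨e, rfl⟩ := hπ t
    change m.hom (π.hom e) = π.hom.liftOfSurjective hπ ⟨c.inr.hom, hk c⟩ (π.hom e)
    rw [RingHom.liftOfSurjective_comp_apply]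
    exact congrArg (fun g : E ⟶ c.pt => g.hom e) hm

/-- Conversely, in a cocartesian square the map opposite to a surjection is surjective with the induced kernel. -/
lemma surjective_ker_of_isPushout {R S E T : CommRingCat.{u}} {f : R ⟶ S} {a : R ⟶ E} {b : S ⟶ T} {π : E ⟶ T}
    (sq : IsPushout f a b π) (hf : Function.Surjective f.hom) :
    Function.Surjective π.hom ∧ RingHom.ker π.hom ≤ (RingHom.ker f.hom).map a.hom := by
  let I := (RingHom.ker f.hom).map a.hom
  let T' := CommRingCat.of (E ⧸ I)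
  let π' : E ⟶ T' := CommRingCat.ofHom (Ideal.Quotient.mk I)
  let g : {g : (R : Type u) →+* E ⧸ I // RingHom.ker f.hom ≤ RingHom.ker g} :=
    ⟨(Ideal.Quotient.mk I).comp a.hom, fun r hr => Ideal.Quotient.eq_zero_iff_mem.2 (Ideal.mem_map_of_mem _ hr)⟩
  let g' : (S : Type u) →+* E ⧸ I := f.hom.liftOfSurjective hf g
  let b' : S ⟶ T' := CommRingCat.ofHom g'
  have sq' : IsPushout f a b' π' := isPushout_of_surjective f a b' π'
    (by ext r; exact RingHom.liftOfSurjective_comp_apply f.hom hf g r) hf Ideal.Quotient.mk_surjective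
    (Ideal.mk_ker (I := I)).le
  let e := sq.isoIsPushout S E sq'
  have he : ∀ x, e.hom.hom (π.hom x) = Ideal.Quotient.mk I x := fun x =>
    congrArg (fun g : E ⟶ T' => g.hom x) (sq.inr_isoIsPushout_hom S E sq')
  have hinj : Function.Injective e.hom.hom := e.commRingCatIsoToRingEquiv.injective
  refine ⟨fun t => ?_, fun x hx => Ideal.Quotient.eq_zero_iff_mem.1 ?_⟩
  · obtain ⟨x, hx⟩ := Ideal.Quotient.mk_surjective (e.hom.hom t)
    exact ⟨x, hinj ((he x).trans hx)⟩
  · rw [← he, show π.hom x = 0 from hx, map_zero]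

/-- `Spec` reflects cartesian squares. -/
lemma isPushout_of_isPullback_SpecMap {R S E T : CommRingCat.{u}} {f : R ⟶ S} {a : R ⟶ E} {b : S ⟶ T} {π : E ⟶ T}
    (sq : IsPullback (Spec.map b) (Spec.map π) (Spec.map f) (Spec.map a)) : IsPushout f a b π := by
  have h : Scheme.Spec.map b.op ≫ Scheme.Spec.map f.op = Scheme.Spec.map π.op ≫ Scheme.Spec.map a.op := sq.w
  rw [← Functor.map_comp, ← Functor.map_comp] at h
  have h' : IsPullback b.op π.op f.op a.op :=
    IsPullback.of_map Scheme.Spec (Scheme.Spec.map_injective h) sq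
  exact h'.unop.flip

section

variable {k : Type u} [Field k] (B₀ : Type u) [CommRing B₀] [Algebra k B₀]

lemma isAffine_total {A : ArtFun.Art k k} (ξ : ArtFun.DefSch (Spec (CommRingCat.of B₀)) (Spec.map (CommRingCat.ofHom (algebraMap k B₀))) A) : IsAffine ξ.total := by
  haveI : IsClosedImmersion (ArtFun.Art.specRes A) :=
    IsClosedImmersion.spec_of_surjective _ A.res_surjective
  haveI : Subsingleton (PrimeSpectrum A) :=
    ⟨fun p q => PrimeSpectrum.ext ((IsLocalRing.eq_maximalIdeal (IsArtinianRing.isMaximal_of_isPrime p.asIdeal)).trans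
      (IsLocalRing.eq_maximalIdeal (IsArtinianRing.isMaximal_of_isPrime q.asIdeal)).symm)⟩
  haveI : Surjective (ArtFun.Art.specRes A) :=
    ⟨fun p => ⟨IsLocalRing.closedPoint k, Subsingleton.elim (α := PrimeSpectrum A) _ _⟩⟩
  haveI : IsClosedImmersion ξ.i :=
    MorphismProperty.of_isPullback (P := @IsClosedImmersion) ξ.isPullback.flip inferInstance
  haveI : Surjective ξ.i :=
    MorphismProperty.of_isPullback (P := @Surjective) ξ.isPullback.flip inferInstance
  exact Groth.Agent.S0440.result ξ.i ξ.i.surjective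

variable {B₀}
variable {C' C : ArtFun.Art k k} (p : C' ⟶ C) (hp : ArtFun.Art.IsSemismallExt p)
  (𝒳 : ArtFun.DefSch (Spec (CommRingCat.of B₀)) (Spec.map (CommRingCat.ofHom (algebraMap k B₀))) C)

/-- Extensions with a chosen identification of the restriction. -/
abbrev Pairs : Type (u + 1) := Σ 𝒳' : ArtFun.DefSch (Spec (CommRingCat.of B₀)) (Spec.map (CommRingCat.ofHom (algebraMap k B₀))) C', (𝒳'.baseChange p).Iso 𝒳

/-- The equivalence of extensions. -/
abbrev Rel (a b : Pairs p 𝒳) : Prop := ∃ ψ : a.1.Iso b.1, ((ψ.baseChange p).trans b.2).iso = a.2.iso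

variable {p 𝒳}

/-- The map of total spaces of an extension. -/
def gmap (a : Pairs p 𝒳) : 𝒳.total ⟶ a.1.total := a.2.iso.inv ≫ pullback.fst _ _

lemma gmap_isPullback (a : Pairs p 𝒳) :
    IsPullback (gmap a) 𝒳.f a.1.f (ArtFun.Art.specMap p) := by
  refine (IsPullback.of_hasPullback a.1.f (ArtFun.Art.specMap p)).of_iso a.2.iso (Iso.refl _) (Iso.refl _)
    (Iso.refl _) ?_ ?_ ?_ ?_
  · simp [gmap]
  · simpa using a.2.hom_f.symm
  · simp
  · simp

lemma i_gmap (a : Pairs p 𝒳) : 𝒳.i ≫ gmap a = a.1.i := by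
  rw [gmap, ← a.2.i_hom, Category.assoc, Iso.hom_inv_id_assoc, ArtFun.DefSch.baseChange_i_fst]

lemma rel_iff (a b : Pairs p 𝒳) : Rel p 𝒳 a b ↔ ∃ ψ : a.1.Iso b.1, gmap a ≫ ψ.iso.hom = gmap b := by
  refine exists_congr fun ψ => ?_
  let P := ArtFun.DefSch.pullMap ψ.iso.hom ψ.hom_f p
  have key : ((ψ.baseChange p).trans b.2).iso = a.2.iso ↔ a.2.iso.inv ≫ P = b.2.iso.inv := by
    refine ⟨fun h => ?_, fun h => CategoryTheory.Iso.ext ?_⟩
    · have h' : P ≫ b.2.iso.hom = a.2.iso.hom := congrArg CategoryTheory.Iso.hom h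
      rw [Iso.inv_comp_eq, ← h', Category.assoc, Iso.hom_inv_id, Category.comp_id]
    · change P ≫ b.2.iso.hom = a.2.iso.hom
      rw [Iso.inv_comp_eq] at h
      rw [h, Category.assoc, Iso.inv_hom_id, Category.comp_id]
  rw [key]
  constructor
  · intro h
    rw [gmap, gmap, ← h, Category.assoc, Category.assoc, ArtFun.DefSch.pullMap_fst]
  · intro h
    apply pullback.hom_ext
    · rw [Category.assoc, ArtFun.DefSch.pullMap_fst, ← Category.assoc]
      exact h
    · rw [Category.assoc, ArtFun.DefSch.pullMap_snd]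
      exact (a.2.iso.inv_comp_eq.2 a.2.hom_f.symm).trans (b.2.iso.inv_comp_eq.2 b.2.hom_f.symm).symm

variable (p 𝒳) in
lemma rel_equivalence : Equivalence (Rel p 𝒳) := by
  refine ⟨fun a => (rel_iff a a).2 ⟨.refl _, Category.comp_id _⟩, fun {a b} h => ?_, fun {a b c} h h' => ?_⟩
  · obtain ⟨ψ, hψ⟩ := (rel_iff a b).1 h
    exact (rel_iff b a).2 ⟨ψ.symm, show gmap b ≫ ψ.iso.inv = gmap a by
      rw [← hψ, Category.assoc, Iso.hom_inv_id, Category.comp_id]⟩
  · obtain ⟨ψ, hψ⟩ := (rel_iff a b).1 h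
    obtain ⟨ψ', hψ'⟩ := (rel_iff b c).1 h'
    exact (rel_iff a c).2 ⟨ψ.trans ψ', show gmap a ≫ (ψ.iso.hom ≫ ψ'.iso.hom) = gmap c by
      rw [← Category.assoc, hψ, hψ']⟩

include hp in
/-- Extensions of an affine deformation are classified by extensions of the special fibre. -/
theorem nonempty_equiv_exal (hne : ∃ 𝒳' : ArtFun.DefSch (Spec (CommRingCat.of B₀)) (Spec.map (CommRingCat.ofHom (algebraMap k B₀))) C', Nonempty ((𝒳'.baseChange p).Iso 𝒳)) :
    Nonempty (Quot (Rel p 𝒳) ≃ Exal.Exalcom k B₀ (B₀ ⊗[k] ↥(RingHom.ker p.toAlgHom))) := by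
  haveI := isAffine_total B₀ 𝒳
  let B : CommRingCat.{u} := Γ(𝒳.total, ⊤)
  let e : 𝒳.total ≅ Spec B := 𝒳.total.isoSpec
  let φ : CommRingCat.of C ⟶ B := Spec.preimage (e.inv ≫ 𝒳.f)
  have hφ : Spec.map φ = e.inv ≫ 𝒳.f := Spec.map_preimage _
  let qB : B ⟶ CommRingCat.of B₀ := Spec.preimage (𝒳.i ≫ e.hom)
  have hqB : Spec.map qB = 𝒳.i ≫ e.hom := Spec.map_preimage _
  have sqB : IsPushout φ (CommRingCat.ofHom C.res.toRingHom) qB (CommRingCat.ofHom (algebraMap k B₀)) := by
    refine isPushout_of_isPullback_SpecMap ?_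
    refine 𝒳.isPullback.of_iso (Iso.refl _) e (Iso.refl _) (Iso.refl _) ?_ ?_ ?_ ?_
    · simp [hqB]
    · simp
    · simp [hφ]
    · simp; rfl
  obtain ⟨hqs, hqk⟩ := surjective_ker_of_isPushout sqB.flip C.res_surjective
  let p' : CommRingCat.of C' ⟶ CommRingCat.of C := CommRingCat.ofHom p.toAlgHom.toRingHom
  letI : Algebra C' B := (φ.hom.comp p.toAlgHom.toRingHom).toAlgebra
  have hps : Function.Surjective p.toAlgHom := hp.1
  have hle : ∀ j ∈ RingHom.ker p.toAlgHom, C'.res j = 0 := fun j hj => by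
    rw [← ArtFun.Art.res_app p j]
    exact (congrArg C.res (hj : p.toAlgHom j = 0)).trans (map_zero _)
  let S : Ctx k C' B₀ B :=
    { res := C'.res
      J := RingHom.ker p.toAlgHom
      le_ker := hle
      mul_eq_zero := fun c hc j hj => by
        rw [← Ideal.mem_bot (R := C'), ← hp.2]
        exact Ideal.mul_mem_mul ((ArtFun.Art.mem_maximalIdeal_iff C' c).2 hc) hj
      pB := qB.hom
      pB_surjective := hqs
      pB_algebraMap := fun c => by
        rw [← ArtFun.Art.res_app p c]
        exact congrArg (fun g : CommRingCat.of C ⟶ CommRingCat.of B₀ => g.hom (p c)) sqB.w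
      pB_ker := hqk.trans (Ideal.map_le_iff_le_comap.2 fun c hc => by
        obtain ⟨c', rfl⟩ := hps c
        exact Ideal.mem_map_of_mem (algebraMap C' B) (show C'.res c' = 0 from (ArtFun.Art.res_app p c').symm.trans hc)) }
  -- from lifts to pairs
  let aL : ∀ L : Lift S, CommRingCat.of C' ⟶ CommRingCat.of L.E := fun L => CommRingCat.ofHom (algebraMap C' L.E)
  let πL : ∀ L : Lift S, CommRingCat.of L.E ⟶ B := fun L => CommRingCat.ofHom L.π.toRingHom
  have sqL : ∀ L : Lift S, IsPullback (e.hom ≫ Spec.map (πL L)) 𝒳.f (Spec.map (aL L)) (ArtFun.Art.specMap p) := by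
    intro L
    have h1 : IsPushout p' (aL L) φ (πL L) := isPushout_of_surjective p' (aL L) φ (πL L)
      (by ext c; exact (L.π.commutes c).symm) hps L.π_surjective L.π_ker
    refine (isPullback_SpecMap_of_isPushout _ _ _ _ h1).flip.of_iso e.symm (Iso.refl _) (Iso.refl _) (Iso.refl _)
      ?_ ?_ ?_ ?_
    · simp
    · simp [hφ]
    · simp
    · simp [p']; rfl
  let Fd : Lift S → ArtFun.DefSch (Spec (CommRingCat.of B₀)) (Spec.map (CommRingCat.ofHom (algebraMap k B₀))) C' := fun L =>
    { total := Spec (CommRingCat.of L.E)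
      f := Spec.map (aL L)
      flat := Flat.SpecMap_iff.2 (RingHom.flat_algebraMap_iff.2 L.flat)
      i := 𝒳.i ≫ e.hom ≫ Spec.map (πL L)
      isPullback := by
        have := 𝒳.isPullback.paste_horiz (sqL L)
        rwa [ArtFun.Art.specRes_comp] at this }
  let F : Lift S → Pairs p 𝒳 := fun L =>
    ⟨Fd L,
      { iso := ((sqL L).isoPullback).symm
        hom_f := (sqL L).isoPullback_inv_snd
        i_hom := by
          rw [Iso.symm_hom, Iso.comp_inv_eq]
          apply pullback.hom_ext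
          · rw [ArtFun.DefSch.baseChange_i_fst, Category.assoc, IsPullback.isoPullback_hom_fst]
          · rw [Category.assoc, IsPullback.isoPullback_hom_snd]
            exact (ArtFun.DefSch.baseChange_i_f (Fd L) p).trans 𝒳.i_f.symm }⟩
  have hgF : ∀ L, gmap (F L) = e.hom ≫ Spec.map (πL L) := fun L => (sqL L).isoPullback_hom_fst
  have hfF : ∀ L, (F L).1.f = Spec.map (aL L) := fun L => rfl
  -- every pair comes from a lift
  have hsurj : ∀ a : Pairs p 𝒳, ∃ L, Rel p 𝒳 (F L) a := by
    intro a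
    haveI := isAffine_total B₀ a.1
    let E : CommRingCat.{u} := Γ(a.1.total, ⊤)
    let eE : a.1.total ≅ Spec E := a.1.total.isoSpec
    let α : CommRingCat.of C' ⟶ E := Spec.preimage (eE.inv ≫ a.1.f)
    have hα : Spec.map α = eE.inv ≫ a.1.f := Spec.map_preimage _
    let π : E ⟶ B := Spec.preimage (e.inv ≫ gmap a ≫ eE.hom)
    have hπ : Spec.map π = e.inv ≫ gmap a ≫ eE.hom := Spec.map_preimage _
    have h1 : IsPushout α p' π φ := by
      refine isPushout_of_isPullback_SpecMap ?_
      refine (gmap_isPullback a).of_iso e eE (Iso.refl _) (Iso.refl _) ?_ ?_ ?_ ?_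
      · simp [hπ]
      · simp [hφ]
      · simp [hα]
      · simp [p']; rfl
    obtain ⟨hπs, hπk⟩ := surjective_ker_of_isPushout h1.flip hps
    letI : Algebra C' E := α.hom.toAlgebra
    have hflat : Flat (Spec.map α) := by
      rw [hα]
      infer_instance
    let π' : E →ₐ[C'] B :=
      { π.hom with commutes' := fun c => congrArg (fun g : CommRingCat.of C' ⟶ B => g.hom c) h1.w }
    let L : Lift S :=
      { E := E
        flat := RingHom.flat_algebraMap_iff.1 (Flat.SpecMap_iff.1 hflat)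
        π := π'
        π_surjective := hπs
        π_ker := hπk
        π_kills := fun j hj => by
          rw [π'.commutes]
          change φ.hom (p.toAlgHom j) = 0
          rw [show p.toAlgHom j = 0 from hj, map_zero] }
    refine ⟨L, (rel_iff _ _).2 ⟨{ iso := eE.symm, hom_f := hα.symm, i_hom := ?_ }, ?_⟩⟩
    · change (𝒳.i ≫ e.hom ≫ Spec.map π) ≫ eE.inv = a.1.i
      rw [hπ, ← i_gmap]
      simp
    · rw [hgF]
      change (e.hom ≫ Spec.map π) ≫ eE.inv = gmap a
      rw [hπ]
      simp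
  -- the relations correspond
  have hrel : ∀ L L', Rel p 𝒳 (F L) (F L') ↔ (Lift.setoid S).r L L' := by
    intro L L'
    rw [rel_iff, hgF, hgF]
    constructor
    · rintro ⟨ψ, hψ⟩
      let w : CommRingCat.of L'.E ⟶ CommRingCat.of L.E := Spec.preimage ψ.iso.hom
      have hw : Spec.map w = ψ.iso.hom := Spec.map_preimage _
      have h1 : aL L' ≫ w = aL L := Spec.map_injective (by rw [Spec.map_comp, hw]; exact ψ.hom_f)
      have h2 : w ≫ πL L = πL L' := Spec.map_injective (by
        rw [Spec.map_comp, hw, ← cancel_epi e.hom, ← Category.assoc]; exact hψ)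
      let φ' : L'.E →ₐ[C'] L.E :=
        { w.hom with commutes' := fun c => congrArg (fun g : CommRingCat.of C' ⟶ CommRingCat.of L.E => g.hom c) h1 }
      exact (Lift.setoid S).iseqv.symm
        ⟨φ', fun x => congrArg (fun g : CommRingCat.of L'.E ⟶ B => g.hom x) h2⟩
    · intro h
      obtain ⟨φ', hφ'⟩ := (Lift.setoid S).iseqv.symm h
      let ae := AlgEquiv.ofBijective φ' (Lift.hom_bijective φ' hφ')
      let w : CommRingCat.of L'.E ≅ CommRingCat.of L.E := ae.toRingEquiv.toCommRingCatIso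
      have h2 : w.hom ≫ πL L = πL L' := by ext x; exact hφ' x
      refine ⟨{ iso := (Scheme.Spec.mapIso w.op), hom_f := ?_, i_hom := ?_ }, ?_⟩
      · change Spec.map w.hom ≫ Spec.map (aL L') = Spec.map (aL L)
        rw [← Spec.map_comp]
        congr 1
        ext c
        exact φ'.commutes c
      · change (𝒳.i ≫ e.hom ≫ Spec.map (πL L)) ≫ Spec.map w.hom = 𝒳.i ≫ e.hom ≫ Spec.map (πL L')
        rw [Category.assoc, Category.assoc, ← Spec.map_comp, h2]
      · change (e.hom ≫ Spec.map (πL L)) ≫ Spec.map w.hom = e.hom ≫ Spec.map (πL L')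
        rw [Category.assoc, ← Spec.map_comp, h2]
  obtain ⟨𝒳₀, ⟨ι₀⟩⟩ := hne
  obtain ⟨L₀, -⟩ := hsurj ⟨𝒳₀, ι₀⟩
  let G : Quotient (Lift.setoid S) → Quot (Rel p 𝒳) :=
    Quotient.lift (fun L => Quot.mk _ (F L)) fun L L' h => Quot.sound ((hrel L L').2 h)
  have hG : Function.Bijective G := by
    refine ⟨fun x y h => ?_, fun z => ?_⟩
    · induction x using Quotient.inductionOn with
      | h L =>
        induction y using Quotient.inductionOn with
        | h L' =>
          refine Quotient.sound ((hrel L L').1 ?_)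
          exact (rel_equivalence p 𝒳).eqvGen_iff.1 (Quot.eqvGen_exact h)
    · induction z using Quot.inductionOn with
      | h a =>
        obtain ⟨L, hL⟩ := hsurj a
        exact ⟨Quotient.mk _ L, Quot.sound hL⟩
  exact ⟨(Equiv.ofBijective G hG).symm.trans L₀.equivExal⟩

end

end DefLib
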