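import Groth.Agent.DefLib.AffineExt
import Groth.Agent.CotTLib.Exal

/-!
# Deformations of affine schemes and `T¹`
-/

set_option autoImplicit false
set_option maxHeartbeats 1600000

universe u

open CategoryTheory CategoryTheory.Limits AlgebraicGeometry
open scoped TensorProduct

noncomputable section

namespace DefLib

variable {k : Type u} [Field k] {B₀ : Type u} [CommRing B₀] [Algebra k B₀]

theorem nonempty_equiv_T1 {C' C : ArtFun.Art k k} (p : C' ⟶ C) (hp : ArtFun.Art.IsSemismallExt p)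
    (𝒳 : ArtFun.DefSch (Spec (CommRingCat.of B₀)) (Spec.map (CommRingCat.ofHom (algebraMap k B₀))) C)
    (hne : ∃ 𝒳' : ArtFun.DefSch (Spec (CommRingCat.of B₀)) (Spec.map (CommRingCat.ofHom (algebraMap k B₀))) C',
      Nonempty ((𝒳'.baseChange p).Iso 𝒳)) :
    Nonempty (Quot (Rel p 𝒳) ≃ CotT.T1 (CotT.canon k B₀) (B₀ ⊗[k] ↥(RingHom.ker p.toAlgHom))) := by
  obtain ⟨e⟩ := nonempty_equiv_exal hp hne
  exact ⟨e.trans (Equiv.ofBijective _
    (CotTLib.exalToT1_bijective (P := CotT.canon k B₀) (M := B₀ ⊗[k] ↥(RingHom.ker p.toAlgHom))))⟩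

/-- Over the field itself a deformation is canonically the scheme. -/
def isoSelf {X : Scheme.{u}} {x : X ⟶ ArtFun.Art.specPt k} (hx : Flat x)
    (η : ArtFun.DefSch X x (ArtFun.Art.base k k)) : η.Iso (ArtFun.DefSch.self X x hx) :=
  haveI : IsIso η.i := η.isPullback.isIso_fst_of_isIso
  { iso := (asIso η.i).symm
    hom_f := by
      change inv η.i ≫ x = η.f
      exact (IsIso.inv_comp_eq η.i).2 (η.i_f.trans (ArtFun.Art.comp_specRes_base x)).symm
    i_hom := by
      change η.i ≫ inv η.i = 𝟙 X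
      exact IsIso.hom_inv_id η.i }

lemma iso_self_unique {X : Scheme.{u}} {x : X ⟶ ArtFun.Art.specPt k} {hx : Flat x}
    {η : ArtFun.DefSch X x (ArtFun.Art.base k k)} (e e' : η.Iso (ArtFun.DefSch.self X x hx)) :
    e.iso = e'.iso := by
  haveI : IsIso η.i := η.isPullback.isIso_fst_of_isIso
  refine CategoryTheory.Iso.ext ?_
  rw [← cancel_epi η.i, e.i_hom, e'.i_hom]

theorem nonempty_equiv_defFunctor_dual :
    Nonempty ((ArtFun.defFunctor (Λ := k) (Spec (CommRingCat.of B₀)) (Spec.map (CommRingCat.ofHom (algebraMap k B₀)))).obj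
        (ArtFun.Art.dual k k) ≃ CotT.T1 (CotT.canon k B₀) B₀) := by
  let X : Scheme.{u} := Spec (CommRingCat.of B₀)
  let x : X ⟶ ArtFun.Art.specPt k := Spec.map (CommRingCat.ofHom (algebraMap k B₀))
  have hx : Flat x := Flat.SpecMap_iff.2 (RingHom.flat_algebraMap_iff.2 inferInstance)
  let p := ArtFun.Art.toBase (ArtFun.Art.dual k k)
  have hp : ArtFun.Art.IsSemismallExt p := by
    refine ⟨(ArtFun.Art.dual k k).res_surjective, ?_⟩
    refine eq_bot_iff.2 (Ideal.mul_le.2 fun a ha b hb => Ideal.mem_bot.2 ?_)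
    have h1 : TrivSqZeroExt.fst (a : DualNumber k) = 0 := (ArtFun.Art.mem_maximalIdeal_iff _ a).1 ha
    have h2 : TrivSqZeroExt.fst (b : DualNumber k) = 0 := hb
    change (a : DualNumber k) * b = 0
    refine TrivSqZeroExt.ext ?_ ?_
    · exact (TrivSqZeroExt.fst_mul (a : DualNumber k) b).trans ((congrArg (· * _) h1).trans (zero_mul _))
    · refine (TrivSqZeroExt.snd_mul (a : DualNumber k) b).trans ?_
      rw [h1, h2, zero_smul, MulOpposite.op_zero, zero_smul, add_zero]
      rfl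
  let 𝒳 := ArtFun.DefSch.self (Λ := k) X x hx
  have hne : ∃ 𝒳' : ArtFun.DefSch X x (ArtFun.Art.dual k k), Nonempty ((𝒳'.baseChange p).Iso 𝒳) :=
    ⟨ArtFun.DefSch.trivial X x hx _, ⟨isoSelf hx _⟩⟩
  obtain ⟨e⟩ := nonempty_equiv_T1 p hp 𝒳 hne
  let F : Quot (Rel p 𝒳) → (ArtFun.defFunctor (Λ := k) X x).obj (ArtFun.Art.dual k k) :=
    Quot.lift (fun a => a.1.cl) fun a b ⟨ψ, _⟩ => Quotient.sound ⟨ψ⟩
  have hF : Function.Bijective F := by
    refine ⟨fun u v h => ?_, fun z => ?_⟩
    · induction u using Quot.inductionOn with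
      | h a =>
        induction v using Quot.inductionOn with
        | h b =>
          obtain ⟨ψ⟩ := Quotient.exact (s := ArtFun.DefSch.setoid X x _) h
          exact Quot.sound ⟨ψ, iso_self_unique _ _⟩
    · induction z using Quotient.inductionOn with
      | h ξ => exact ⟨Quot.mk _ ⟨ξ, isoSelf hx _⟩, rfl⟩
  let eJ : ↥(RingHom.ker p.toAlgHom) ≃ₗ[k] k :=
    { toFun := fun j => TrivSqZeroExt.snd (j.1 : DualNumber k)
      invFun := fun c => ⟨(TrivSqZeroExt.inr c : DualNumber k), TrivSqZeroExt.fst_inr k c⟩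
      map_add' := fun a b => rfl
      map_smul' := fun c a => by
        change TrivSqZeroExt.snd (c • (a.1 : DualNumber k)) = c • TrivSqZeroExt.snd (a.1 : DualNumber k)
        exact TrivSqZeroExt.snd_smul _ _
      left_inv := fun j => Subtype.ext (TrivSqZeroExt.ext
        ((TrivSqZeroExt.fst_inr k _).trans (show TrivSqZeroExt.fst (j.1 : DualNumber k) = 0 from j.2).symm)
        (TrivSqZeroExt.snd_inr k _))
      right_inv := fun c => TrivSqZeroExt.snd_inr k c }
  let eN : B₀ ⊗[k] ↥(RingHom.ker p.toAlgHom) ≃ₗ[B₀] B₀ :=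
    (TensorProduct.AlgebraTensorModule.congr (LinearEquiv.refl B₀ B₀) eJ).trans
      (TensorProduct.AlgebraTensorModule.rid k B₀ B₀)
  have hcomp : ∀ {M N : Type u} [AddCommGroup M] [Module B₀ M] [AddCommGroup N] [Module B₀ N] (f : M ≃ₗ[B₀] N)
      (z : CotT.T1 (CotT.canon k B₀) M),
      CotT.T1map (CotT.canon k B₀) f.symm.toLinearMap (CotT.T1map (CotT.canon k B₀) f.toLinearMap z) = z := by
    intro M N _ _ _ _ f z
    obtain ⟨c, rfl⟩ := Submodule.Quotient.mk_surjective _ z
    refine congrArg Submodule.Quotient.mk (Subtype.ext (LinearMap.ext fun y => ?_))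
    exact f.symm_apply_apply (c.1 y)
  exact ⟨(Equiv.ofBijective F hF).symm.trans (e.trans
    { toFun := CotT.T1map (CotT.canon k B₀) eN.toLinearMap
      invFun := CotT.T1map (CotT.canon k B₀) eN.symm.toLinearMap
      left_inv := hcomp eN
      right_inv := fun z => by simpa using hcomp eN.symm z })⟩

end DefLib
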