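import Groth.Agent.DefLib.ArtFlat
import Mathlib.AlgebraicGeometry.Morphisms.Flat
import Mathlib.AlgebraicGeometry.Properties
import Mathlib.Topology.Sheaves.SheafCondition.UniqueGluing

/-!
# Global functions on flat families over Artinian rings
-/

set_option autoImplicit false
set_option maxHeartbeats 1600000

universe u

open CategoryTheory CategoryTheory.Limits AlgebraicGeometry IsLocalRing Opposite TopologicalSpace

noncomputable section

namespace DefLib

section Ring

variable {C : Type u} [CommRing C] [IsLocalRing C]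

/-- A nonzero finitely generated ideal has a sub-ideal with one-dimensional quotient. -/
theorem exists_step [IsNoetherianRing C] (hnil : IsNilpotent (maximalIdeal C)) {J : Ideal C} (hJ : J ≠ ⊥) :
    ∃ (J' : Ideal C) (ε : C), J' < J ∧ J = J' ⊔ Ideal.span {ε} ∧ ε ∉ J' ∧ ∀ c ∈ maximalIdeal C, c * ε ∈ J' := by
  obtain ⟨J', hJ', hmax⟩ := set_has_maximal_iff_noetherian.2 (inferInstance : IsNoetherian C C)
    {K : Ideal C | K < J} ⟨⊥, bot_lt_iff_ne_bot.2 hJ⟩
  obtain ⟨ε, hεJ, hε⟩ := SetLike.exists_of_lt (show J' < J from hJ')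
  refine ⟨J', ε, hJ', ?_, hε, fun c hc => ?_⟩
  · by_contra h
    have h1 : J' ⊔ Ideal.span {ε} ≤ J := sup_le hJ'.le (by rwa [Ideal.span_le, Set.singleton_subset_iff])
    have h2 : J' < J' ⊔ Ideal.span {ε} := lt_of_le_of_ne le_sup_left fun h3 => hε (h3.symm ▸
      Ideal.mem_sup_right (Ideal.mem_span_singleton_self ε))
    exact hmax _ (lt_of_le_of_ne h1 (Ne.symm h)) h2
  · let K := J' ⊔ maximalIdeal C * J
    by_contra hce
    have h1 : K ≤ J := sup_le hJ'.le Ideal.mul_le_right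
    have h2 : J' < K := lt_of_le_of_ne le_sup_left fun h3 => hce (h3.symm ▸
      Ideal.mem_sup_right (Ideal.mul_mem_mul hc hεJ))
    have h3 : K = J := by
      by_contra h
      exact hmax _ (lt_of_le_of_ne h1 h) h2
    obtain ⟨n, hn⟩ := hnil
    have key : ∀ j, J ≤ J' ⊔ maximalIdeal C ^ j * J := by
      intro j
      induction j with
      | zero => simp
      | succ j ih =>
        refine ih.trans (sup_le le_sup_left ?_)
        refine (Ideal.mul_mono le_rfl h3.ge).trans ?_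
        simp only [K]
        rw [Ideal.mul_sup, ← mul_assoc, ← pow_succ]
        exact sup_le_sup_right Ideal.mul_le_right _
    have h4 := key n
    rw [hn, zero_mul, Submodule.zero_eq_bot, sup_bot_eq] at h4
    exact absurd (le_antisymm hJ'.le h4) (ne_of_lt hJ')

/-- In a flat algebra `ε a ∈ J' R` forces `a ∈ m R`. -/
theorem mem_of_algebraMap_mul_mem (hnil : IsNilpotent (maximalIdeal C)) {R : Type u} [CommRing R] [Algebra C R]
    [Module.Flat C R] {J' : Ideal C} {ε : C} (hε : ε ∉ J') {a : R}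
    (h : algebraMap C R ε * a ∈ J'.map (algebraMap C R)) : a ∈ (maximalIdeal C).map (algebraMap C R) := by
  haveI := free_of_flat_of_nilpotent (C := C) (M := R) hnil
  let b := Module.Free.chooseBasis C R
  have h1 : algebraMap C R ε * a ∈ J' • (⊤ : Submodule C R) := by rw [Ideal.smul_top_eq_map]; exact h
  have h2 : ∀ i, b.repr (algebraMap C R ε * a) i ∈ J' := by
    refine Submodule.smul_induction_on h1 (fun c hc x _ i => ?_) (fun x y hx hy i => ?_)
    · rw [map_smul, Finsupp.smul_apply, smul_eq_mul]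
      exact J'.mul_mem_right _ hc
    · rw [map_add, Finsupp.add_apply]
      exact add_mem (hx i) (hy i)
  have h3 : ∀ i, b.repr a i ∈ maximalIdeal C := fun i => by
    have h4 := h2 i
    rw [← Algebra.smul_def, map_smul, Finsupp.smul_apply, smul_eq_mul] at h4
    refine (mem_maximalIdeal _).2 fun hu => hε ?_
    obtain ⟨v, hv⟩ := hu
    rw [← hv] at h4
    simpa using J'.mul_mem_right ((v⁻¹ : Cˣ) : C) h4
  have h5 : a ∈ maximalIdeal C • (⊤ : Submodule C R) := by
    rw [← b.linearCombination_repr a, Finsupp.linearCombination_apply]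
    exact Submodule.sum_mem _ fun i _ => Submodule.smul_mem_smul (h3 i) Submodule.mem_top
  rw [Ideal.smul_top_eq_map] at h5
  exact h5

end Ring

section Scheme

variable (C : Type u) [CommRing C] [IsLocalRing C] {X X₀ : Scheme.{u}} (g : X ⟶ Spec (CommRingCat.of C))
  (i : X₀ ⟶ X) (f₀ : X₀ ⟶ Spec (CommRingCat.of (C ⧸ maximalIdeal C)))

/-- `C → Γ(X, U)`. -/
def strMap (U : X.Opens) : CommRingCat.of C ⟶ Γ(X, U) :=
  (Scheme.ΓSpecIso (CommRingCat.of C)).inv ≫ g.appLE ⊤ U le_top

/-- `C/m → Γ(X₀, W)`. -/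
def fibMap (W : X₀.Opens) : CommRingCat.of (C ⧸ maximalIdeal C) ⟶ Γ(X₀, W) :=
  (Scheme.ΓSpecIso (CommRingCat.of (C ⧸ maximalIdeal C))).inv ≫ f₀.appLE ⊤ W le_top

lemma strMap_res {U V : X.Opens} (h : V ≤ U) : strMap C g U ≫ X.presheaf.map (homOfLE h).op = strMap C g V := by
  rw [strMap, Category.assoc, Scheme.Hom.appLE_map]
  rfl

lemma fibMap_res {U V : X₀.Opens} (h : V ≤ U) :
    fibMap C f₀ U ≫ X₀.presheaf.map (homOfLE h).op = fibMap C f₀ V := by
  rw [fibMap, Category.assoc, Scheme.Hom.appLE_map]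
  rfl

variable {C g i f₀}
variable (hsq : IsPullback i f₀ g (Spec.map (CommRingCat.ofHom (Ideal.Quotient.mk (maximalIdeal C)))))

include hsq in
lemma strMap_app (U : X.Opens) : strMap C g U ≫ i.app U =
    CommRingCat.ofHom (Ideal.Quotient.mk (maximalIdeal C)) ≫ fibMap C f₀ (i ⁻¹ᵁ U) := by
  let q : CommRingCat.of C ⟶ CommRingCat.of (C ⧸ maximalIdeal C) := CommRingCat.ofHom (Ideal.Quotient.mk _)
  have h1 : g.appLE ⊤ U le_top ≫ i.app U = (i ≫ g).appLE ⊤ (i ⁻¹ᵁ U) le_top := by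
    rw [i.app_eq_appLE, Scheme.Hom.appLE_comp_appLE]
  have h2 : (i ≫ g).appLE ⊤ (i ⁻¹ᵁ U) le_top = (f₀ ≫ Spec.map q).appLE ⊤ (i ⁻¹ᵁ U) le_top := by
    simp only [hsq.w, q]
  rw [strMap, Category.assoc, h1, h2, Scheme.Hom.comp_appLE, fibMap, ← Category.assoc, ← Category.assoc]
  congr 1
  exact (Scheme.ΓSpecIso_inv_naturality q).symm

include hsq in
lemma mem_map_of_app_eq_zero {U : X.Opens} (hU : IsAffineOpen U) (a : Γ(X, U)) (ha : i.app U a = 0) :
    a ∈ (maximalIdeal C).map (strMap C g U).hom := by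
  let I := (maximalIdeal C).map (strMap C g U).hom
  let S := CommRingCat.of (Γ(X, U) ⧸ I)
  let π : Γ(X, U) ⟶ S := CommRingCat.ofHom (Ideal.Quotient.mk I)
  let F0 : Spec S ⟶ X := Spec.map π ≫ hU.fromSpec
  let b : CommRingCat.of (C ⧸ maximalIdeal C) ⟶ S :=
    CommRingCat.ofHom (Ideal.quotientMap I (strMap C g U).hom Ideal.le_comap_map)
  have hfg : hU.fromSpec ≫ g = Spec.map (strMap C g U) := by
    have := IsAffineOpen.SpecMap_appLE_fromSpec g (isAffineOpen_top (Spec (CommRingCat.of C))) hU le_top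
    rw [← this, IsAffineOpen.fromSpec_top, Scheme.isoSpec_Spec_inv, ← Spec.map_comp]
    rfl
  have w : F0 ≫ g = Spec.map b ≫ Spec.map (CommRingCat.ofHom (Ideal.Quotient.mk (maximalIdeal C))) := by
    rw [Category.assoc, hfg, ← Spec.map_comp, ← Spec.map_comp]
    rfl
  let h := hsq.lift F0 (Spec.map b) w
  have hh : h ≫ i = F0 := hsq.lift_fst _ _ _
  have e : (⊤ : (Spec S).Opens) ≤ F0 ⁻¹ᵁ U := fun x _ => by
    have hx : hU.fromSpec ((Spec.map π) x) ∈ Set.range hU.fromSpec := ⟨_, rfl⟩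
    rw [hU.range_fromSpec] at hx
    exact hx
  have h1 : (h ≫ i).appLE U ⊤ (hh ▸ e) a = 0 := by
    rw [Scheme.Hom.comp_appLE]
    change h.appLE _ ⊤ _ (i.app U a) = 0
    rw [ha, map_zero]
  have h2 : F0.appLE U ⊤ e a = 0 := by
    have : ∀ (F : Spec S ⟶ X) (hF : F = F0) (e' : (⊤ : (Spec S).Opens) ≤ F ⁻¹ᵁ U),
        F.appLE U ⊤ e' a = 0 → F0.appLE U ⊤ e a = 0 := by
      rintro _ rfl e' h'; exact h'
    exact this _ hh _ h1
  have h3 : F0.appLE U ⊤ e = π ≫ (Scheme.ΓSpecIso S).inv := by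
    have h4 : hU.fromSpec.appLE U ⊤ hU.fromSpec_preimage_self.ge = (Scheme.ΓSpecIso Γ(X, U)).inv := by
      rw [Scheme.Hom.appLE, hU.fromSpec_app_self, Category.assoc, ← Functor.map_comp]
      exact (congrArg _ ((congrArg _ (Subsingleton.elim _ (𝟙 _))).trans ((Spec Γ(X, U)).presheaf.map_id _))).trans
        (Category.comp_id _)
    rw [← Scheme.Hom.appLE_comp_appLE (Spec.map π) hU.fromSpec U ⊤ ⊤ hU.fromSpec_preimage_self.ge le_top, h4,
      Scheme.ΓSpecIso_inv_naturality]
    congr 1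
  rw [h3] at h2
  refine Ideal.Quotient.eq_zero_iff_mem.1 ?_
  have h5 := congrArg (Scheme.ΓSpecIso S).hom h2
  rw [map_zero, ← CommRingCat.comp_apply, Category.assoc, Iso.inv_hom_id, Category.comp_id] at h5
  exact h5

include hsq in
theorem bijective_strMap_top [IsArtinianRing C] [Flat g]
    (h0 : Function.Bijective (fibMap C f₀ ⊤).hom) : Function.Bijective (strMap C g ⊤).hom := by
  obtain ⟨n, hn⟩ := IsArtinianRing.isNilpotent_jacobson_bot (R := C)
  rw [IsLocalRing.jacobson_eq_maximalIdeal ⊥ bot_ne_top] at hn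
  have hnil : IsNilpotent (maximalIdeal C) := ⟨n, hn⟩
  have hres : ∀ {U V : X.Opens} (h : V ≤ U) (c : C),
      X.presheaf.map (homOfLE h).op (strMap C g U c) = strMap C g V c := fun h c =>
    congrArg (fun F => F.hom c) (strMap_res C g h)
  have hflat : ∀ {U : X.Opens}, IsAffineOpen U → (strMap C g U).hom.Flat := fun {U} hU => by
    rw [strMap, CommRingCat.hom_comp]
    exact (RingHom.Flat.of_bijective (Scheme.ΓSpecIso (CommRingCat.of C)).symm.commRingCatIsoToRingEquiv.bijective).comp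
      (g.flat_appLE (isAffineOpen_top _) hU le_top)
  -- injectivity
  haveI : Nontrivial Γ(X₀, ⊤) := (Function.Injective.nontrivial h0.1)
  obtain ⟨x₀⟩ : Nonempty X₀ := by
    by_contra hE
    rw [not_nonempty_iff] at hE
    exact not_subsingleton Γ(X₀, ⊤) inferInstance
  obtain ⟨_, ⟨U₀, hU₀, rfl⟩, hx, -⟩ :=
    X.isBasis_affineOpens.exists_subset_of_mem_open (Set.mem_univ (i x₀)) isOpen_univ
  haveI : Nonempty U₀ := ⟨⟨_, hx⟩⟩
  refine ⟨(injective_iff_map_eq_zero _).2 fun c hc => ?_, fun s => ?_⟩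
  · letI := (strMap C g U₀).hom.toAlgebra
    haveI : Module.Flat C Γ(X, U₀) := hflat hU₀
    haveI := free_of_flat_of_nilpotent (C := C) (M := Γ(X, U₀)) hnil
    have hc' : algebraMap C Γ(X, U₀) c = 0 := by
      change strMap C g U₀ c = 0
      rw [← hres le_top c]
      exact (congrArg _ hc).trans (map_zero _)
    let b := Module.Free.chooseBasis C Γ(X, U₀)
    obtain ⟨j⟩ := b.index_nonempty
    have h2 : c • b j = 0 := by rw [Algebra.smul_def, hc', zero_mul]
    simpa using congrArg (fun y => b.repr y j) h2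
  -- surjectivity
  let P : Ideal C → Prop := fun J => ∃ c : C, ∀ U : X.Opens, IsAffineOpen U →
    X.presheaf.map (homOfLE (le_top : U ≤ ⊤)).op s - strMap C g U c ∈ J.map (strMap C g U).hom
  obtain ⟨J, ⟨c, hc⟩, hmin⟩ := IsArtinian.set_has_minimal {J : Ideal C | P J}
    ⟨⊤, 0, fun U _ => by rw [Ideal.map_top]; exact Submodule.mem_top⟩
  by_cases hJ : J = ⊥
  · refine ⟨c, ?_⟩
    refine TopCat.Sheaf.eq_of_locally_eq' X.sheaf (fun U : X.affineOpens => (U : X.Opens)) ⊤
      (fun U => homOfLE le_top) ?_ _ _ fun U => ?_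
    · rw [iSup_affineOpens_eq_top]
    · have h1 := hc U.1 U.2
      rw [hJ, Ideal.map_bot, Ideal.mem_bot, sub_eq_zero] at h1
      exact (hres le_top c).trans h1.symm
  exfalso
  obtain ⟨J', ε, hlt, hJeq, hε, hεm⟩ := exists_step hnil hJ
  -- coefficients
  have hex : ∀ U : X.affineOpens, ∃ a : Γ(X, U.1), X.presheaf.map (homOfLE (le_top : U.1 ≤ ⊤)).op s -
      strMap C g U.1 c - strMap C g U.1 ε * a ∈ J'.map (strMap C g U.1).hom := fun U => by
    have h := hc U.1 U.2
    rw [hJeq, Ideal.map_sup, Ideal.map_span, Set.image_singleton] at h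
    obtain ⟨y, hy, z, hz, hyz⟩ := Submodule.mem_sup.1 h
    obtain ⟨a, rfl⟩ := Ideal.mem_span_singleton'.1 hz
    refine ⟨a, ?_⟩
    rw [← hyz, mul_comm a, add_sub_cancel_right]
    exact hy
  choose a ha using hex
  have uniq : ∀ {U : X.Opens}, IsAffineOpen U → ∀ b b' : Γ(X, U),
      strMap C g U ε * (b - b') ∈ J'.map (strMap C g U).hom → i.app U b = i.app U b' := by
    intro U hU b b' hb
    letI := (strMap C g U).hom.toAlgebra
    haveI : Module.Flat C Γ(X, U) := hflat hU
    have h := mem_of_algebraMap_mul_mem (C := C) hnil hε (a := b - b') hb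
    rw [← sub_eq_zero, ← map_sub]
    refine Submodule.span_induction (fun y hy => ?_) (map_zero _) (fun y z _ _ hy hz => by rw [map_add, hy, hz, add_zero])
      (fun r y _ hy => by rw [smul_eq_mul, map_mul, hy, mul_zero]) h
    obtain ⟨m, hm, rfl⟩ := hy
    refine (congrArg (fun F => F.hom m) (strMap_app hsq U)).trans ?_
    change fibMap C f₀ (i ⁻¹ᵁ U) (Ideal.Quotient.mk (maximalIdeal C) m) = 0
    rw [Ideal.Quotient.eq_zero_iff_mem.2 hm, map_zero]
  have hrestr : ∀ (U : X.affineOpens) {W : X.Opens}, IsAffineOpen W → ∀ h : W ≤ U.1,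
      X.presheaf.map (homOfLE (le_top : W ≤ ⊤)).op s - strMap C g W c -
        strMap C g W ε * X.presheaf.map (homOfLE h).op (a U) ∈ J'.map (strMap C g W).hom := by
    intro U W hW h
    have h1 := Ideal.mem_map_of_mem (X.presheaf.map (homOfLE h).op).hom (ha U)
    rw [Ideal.map_map, ← CommRingCat.hom_comp, strMap_res C g h] at h1
    convert h1 using 1
    rw [map_sub, map_sub, map_mul]
    congr 1
    · congr 1
      · rw [← ConcreteCategory.comp_apply, ← Functor.map_comp]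
        rfl
      · exact (hres h c).symm
    · congr 1
      exact (hres h ε).symm
  have hnat : ∀ {U W : X.Opens} (h : W ≤ U) (y : Γ(X, U)),
      X₀.presheaf.map (homOfLE (show i ⁻¹ᵁ W ≤ i ⁻¹ᵁ U from fun z hz => h hz)).op (i.app U y) =
        i.app W (X.presheaf.map (homOfLE h).op y) := by
    intro U W h y
    have := congrArg (fun F => F.hom y) (i.naturality (homOfLE h).op)
    exact this.symm
  let V : X.affineOpens → X₀.Opens := fun U => i ⁻¹ᵁ U.1
  have hcov : (⊤ : X₀.Opens) ≤ iSup V := fun z _ => by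
    obtain ⟨_, ⟨U, hU, rfl⟩, hz, -⟩ := X.isBasis_affineOpens.exists_subset_of_mem_open (Set.mem_univ (i z)) isOpen_univ
    exact Opens.mem_iSup.2 ⟨⟨U, hU⟩, hz⟩
  obtain ⟨σ, hσ, -⟩ := TopCat.Sheaf.existsUnique_gluing' X₀.sheaf V ⊤ (fun U => homOfLE le_top) hcov
    (fun U => i.app U.1 (a U)) (fun U U' => by
      refine TopCat.Sheaf.eq_of_locally_eq' X₀.sheaf
        (fun W : {W : X.affineOpens // W.1 ≤ U.1 ⊓ U'.1} => i ⁻¹ᵁ W.1.1) _
        (fun W => homOfLE (fun z hz => W.2 hz)) (fun z hz => ?_) _ _ fun W => ?_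
      · obtain ⟨_, ⟨W, hW, rfl⟩, hzW, hWsub⟩ :=
          X.isBasis_affineOpens.exists_subset_of_mem_open (show i z ∈ (U.1 ⊓ U'.1 : X.Opens) from hz) (U.1 ⊓ U'.1).isOpen
        exact Opens.mem_iSup.2 ⟨⟨⟨W, hW⟩, hWsub⟩, hzW⟩
      · rw [← ConcreteCategory.comp_apply, ← Functor.map_comp, ← ConcreteCategory.comp_apply, ← Functor.map_comp]
        have hl := hnat (W.2.trans inf_le_left) (a U)
        have hr := hnat (W.2.trans inf_le_right) (a U')
        refine hl.trans (Eq.trans ?_ hr.symm)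
        refine uniq W.1.2 _ _ ?_
        have d1 := hrestr U W.1.2 (W.2.trans inf_le_left)
        have d2 := hrestr U' W.1.2 (W.2.trans inf_le_right)
        have := sub_mem d2 d1
        rw [mul_sub]
        convert this using 1
        ring)
  obtain ⟨cb, hcb⟩ := h0.2 σ
  obtain ⟨c', rfl⟩ := Ideal.Quotient.mk_surjective cb
  refine hmin J' ⟨c + ε * c', fun U hU => ?_⟩ hlt
  have h1 : i.app U (a ⟨U, hU⟩ - strMap C g U c') = 0 := by
    rw [map_sub, sub_eq_zero]
    refine (hσ ⟨U, hU⟩).symm.trans ?_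
    rw [← hcb]
    exact (congrArg (fun F : CommRingCat.of (C ⧸ maximalIdeal C) ⟶ Γ(X₀, i ⁻¹ᵁ U) => F.hom (Ideal.Quotient.mk _ c'))
      (fibMap_res C f₀ (le_top : i ⁻¹ᵁ U ≤ ⊤))).trans
      (congrArg (fun F : CommRingCat.of C ⟶ Γ(X₀, i ⁻¹ᵁ U) => F.hom c') (strMap_app hsq U)).symm
  have h2 := mem_map_of_app_eq_zero hsq hU _ h1
  have h3 : strMap C g U ε * (a ⟨U, hU⟩ - strMap C g U c') ∈ J'.map (strMap C g U).hom := by
    refine Submodule.span_induction (fun y hy => ?_) (by simp) (fun y z _ _ hy hz => by rw [mul_add]; exact add_mem hy hz)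
      (fun r y _ hy => by rw [smul_eq_mul, mul_left_comm]; exact Ideal.mul_mem_left _ _ hy) h2
    obtain ⟨m, hm, rfl⟩ := hy
    rw [← map_mul]
    exact Ideal.mem_map_of_mem _ (mul_comm m ε ▸ hεm m hm)
  have := add_mem (ha ⟨U, hU⟩) h3
  convert this using 1
  rw [map_add, map_mul]
  ring

end Scheme

end DefLib
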