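import Groth.Agent.DefLib.ArtFlat

/-!
# Flat lifts of a closed subscheme form a torsor
-/

set_option autoImplicit false
set_option maxHeartbeats 1600000

universe u

open TensorProduct IsLocalRing

noncomputable section

namespace DefLib

namespace Hilb

variable {C : Type u} [CommRing C] [IsLocalRing C] {J : Ideal C} {A : Type u} [CommRing A] [Algebra C A]

variable (J) in
/-- `A/JA`. -/
abbrev A1 (A : Type u) [CommRing A] [Algebra C A] : Type u := A ⧸ J.map (algebraMap C A)

variable (I : Ideal (A1 J A))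

/-- `A ⊗ J → B ⊗ J`. -/
def red : A ⊗[C] J →ₗ[C] (A1 J A ⧸ I) ⊗[C] J :=
  LinearMap.rTensor J (IsScalarTower.toAlgHom C A (A1 J A ⧸ I)).toLinearMap

variable {I}

lemma red_surjective : Function.Surjective (red I) :=
  LinearMap.rTensor_surjective J (fun b => by
    obtain ⟨y, rfl⟩ := Ideal.Quotient.mk_surjective b
    obtain ⟨x, rfl⟩ := Ideal.Quotient.mk_surjective y
    exact ⟨x, rfl⟩)

lemma red_smul (a : A) (z : A ⊗[C] J) : red I (a • z) = a • red I z := by
  induction z using TensorProduct.induction_on with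
  | zero => simp
  | add x y hx hy => simp only [smul_add, map_add, hx, hy]
  | tmul b j =>
    change red I ((a • b) ⊗ₜ j) = a • red I (b ⊗ₜ j)
    simp only [red, LinearMap.rTensor_tmul, TensorProduct.smul_tmul', AlgHom.toLinearMap_apply, smul_eq_mul, map_mul]
    rfl

lemma mult_smul (a : A) (z : A ⊗[C] J) : multMap A J (a • z) = a * multMap A J z := by
  induction z using TensorProduct.induction_on with
  | zero => simp
  | add x y hx hy => simp only [smul_add, map_add, mul_add, hx, hy]
  | tmul b j =>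
    change (j : C) • (a * b) = a * ((j : C) • b)
    rw [mul_smul_comm]

lemma mk_mult (z : A ⊗[C] J) : Ideal.Quotient.mk (J.map (algebraMap C A)) (multMap A J z) = 0 := by
  induction z using TensorProduct.induction_on with
  | zero => simp
  | add x y hx hy => simp only [map_add, hx, hy, add_zero]
  | tmul b j =>
    change Ideal.Quotient.mk _ ((j : C) • b) = 0
    rw [Algebra.smul_def, map_mul, Ideal.Quotient.eq_zero_iff_mem.2 (Ideal.mem_map_of_mem _ j.2), zero_mul]

lemma exists_mult {x y : A}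
    (h : Ideal.Quotient.mk (J.map (algebraMap C A)) x = Ideal.Quotient.mk (J.map (algebraMap C A)) y) :
    ∃ z, multMap A J z = x - y :=
  exists_multMap_eq J (by rw [Ideal.smul_top_eq_map]; exact Ideal.Quotient.eq.1 h)

variable {I' : Ideal A} (hle : I'.map (Ideal.Quotient.mk (J.map (algebraMap C A))) ≤ I)

include hle in
lemma red_eq_zero_of_mem [Module.Flat C (A ⧸ I')] {z : A ⊗[C] J} (hz : multMap A J z ∈ I') : red I z = 0 := by
  let π : A →ₗ[C] A ⧸ I' := (Ideal.Quotient.mkₐ C I').toLinearMap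
  let g : (A ⧸ I') →ₗ[C] (A1 J A ⧸ I) := (Ideal.Quotient.liftₐ I' (IsScalarTower.toAlgHom C A (A1 J A ⧸ I))
    (fun x hx => Ideal.Quotient.eq_zero_iff_mem.2 (hle (Ideal.mem_map_of_mem _ hx)))).toLinearMap
  have hc : ∀ w, multMap (A ⧸ I') J (LinearMap.rTensor J π w) = π (multMap A J w) := fun w => by
    induction w using TensorProduct.induction_on with
    | zero => simp
    | add a b ha hb => simp only [map_add, ha, hb]
    | tmul a c => exact (map_smul π (c : C) a).symm
  have h0 : LinearMap.rTensor J π z = 0 := multMap_injective J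
    (((hc z).trans (Ideal.Quotient.eq_zero_iff_mem.2 hz)).trans (map_zero _).symm)
  have : red I z = LinearMap.rTensor J g (LinearMap.rTensor J π z) := by
    rw [← LinearMap.comp_apply, ← LinearMap.rTensor_comp]
    rfl
  rw [this, h0, map_zero]

lemma red_eq_zero_iff {z : A ⊗[C] J} (hz : red I z = 0) :
    multMap A J z ∈ J • ((I.comap (Ideal.Quotient.mk (J.map (algebraMap C A)))).restrictScalars C) := by
  have hsur : Function.Surjective (IsScalarTower.toAlgHom C A (A1 J A ⧸ I)).toLinearMap := fun b => by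
    obtain ⟨y, rfl⟩ := Ideal.Quotient.mk_surjective b
    obtain ⟨x, rfl⟩ := Ideal.Quotient.mk_surjective y
    exact ⟨x, rfl⟩
  obtain ⟨w, rfl⟩ := (rTensor_exact (M := LinearMap.ker (IsScalarTower.toAlgHom C A (A1 J A ⧸ I)).toLinearMap)
    J (LinearMap.exact_subtype_ker_map _) hsur z).1 hz
  clear hz
  induction w using TensorProduct.induction_on with
  | zero => simp
  | add a b ha hb => simp only [map_add]; exact add_mem ha hb
  | tmul a c =>
    exact Submodule.smul_mem_smul c.2
      (show Ideal.Quotient.mk (J.map (algebraMap C A)) a.1 ∈ I from Ideal.Quotient.eq_zero_iff_mem.1 a.2)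

/-- `x'' − x'` corresponds to `t`. -/
def Diff (I : Ideal (A1 J A)) (x' x'' : A) (t : (A1 J A ⧸ I) ⊗[C] J) : Prop :=
  ∃ z, multMap A J z = x'' - x' ∧ red I z = t

include hle in
lemma Diff.unique [Module.Flat C (A ⧸ I')] {x' y' : A} (hx : x' ∈ I') (hy : y' ∈ I') {x'' : A}
    {t t' : (A1 J A ⧸ I) ⊗[C] J} (h : Diff I x' x'' t) (h' : Diff I y' x'' t') : t = t' := by
  obtain ⟨z, hz, rfl⟩ := h
  obtain ⟨w, hw, rfl⟩ := h'
  rw [← sub_eq_zero, ← map_sub]
  refine red_eq_zero_of_mem hle ?_
  rw [map_sub, hz, hw, sub_sub_sub_cancel_left]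
  exact sub_mem hy hx

theorem existsUnique_hom [Module.Flat C A] {I'' : Ideal A} [Module.Flat C (A ⧸ I')] [Module.Flat C (A ⧸ I'')]
    (hI' : I'.map (Ideal.Quotient.mk (J.map (algebraMap C A))) = I)
    (hI'' : I''.map (Ideal.Quotient.mk (J.map (algebraMap C A))) = I) :
    ∃! φ : ↥I →ₗ[A] ((A1 J A ⧸ I) ⊗[C] J),
      ∀ (x : A1 J A) (hx : x ∈ I) (x' x'' : A), x' ∈ I' → x'' ∈ I'' →
        Ideal.Quotient.mk (J.map (algebraMap C A)) x' = x → Ideal.Quotient.mk (J.map (algebraMap C A)) x'' = x →
        ∀ z : A ⊗[C] J, multMap A J z = x'' - x' → red I z = φ ⟨x, hx⟩ := by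
  have hs := Ideal.Quotient.mk_surjective (I := J.map (algebraMap C A))
  choose a ha hqa using fun x : I => (Ideal.mem_map_iff_of_surjective _ hs).1 (hI'.ge x.2)
  choose b hb hqb using fun x : I => (Ideal.mem_map_iff_of_surjective _ hs).1 (hI''.ge x.2)
  choose w hw using fun x : I => exists_mult ((hqb x).trans (hqa x).symm)
  have spec : ∀ (x : I) (x' x'' : A), x' ∈ I' → x'' ∈ I'' →
      Ideal.Quotient.mk (J.map (algebraMap C A)) x' = x → Ideal.Quotient.mk (J.map (algebraMap C A)) x'' = x →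
      ∀ z, multMap A J z = x'' - x' → red I z = red I (w x) := by
    intro x x' x'' hx' hx'' h' h'' z hz
    obtain ⟨u, hu⟩ := exists_mult (h''.trans (hqb x).symm)
    have hu0 : red I u = 0 := red_eq_zero_of_mem hI''.le (hu ▸ sub_mem hx'' (hb x))
    have h1 : red I (z - u - w x) = 0 := red_eq_zero_of_mem hI'.le (by
      rw [map_sub, map_sub, hz, hu, hw, show x'' - x' - (x'' - b x) - (b x - a x) = a x - x' by ring]
      exact sub_mem (ha x) hx')
    rwa [map_sub, map_sub, hu0, sub_zero, sub_eq_zero] at h1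
  let φ : ↥I →ₗ[A] ((A1 J A ⧸ I) ⊗[C] J) :=
    { toFun := fun x => red I (w x)
      map_add' := fun x y => by
        rw [← map_add]
        refine (spec (x + y) (a x + a y) (b x + b y) (add_mem (ha x) (ha y)) (add_mem (hb x) (hb y))
          (by rw [map_add, hqa, hqa]; rfl) (by rw [map_add, hqb, hqb]; rfl) _ ?_).symm
        rw [map_add, hw, hw]; ring
      map_smul' := fun c x => by
        rw [RingHom.id_apply, ← red_smul]
        refine (spec (c • x) (c * a x) (c * b x) (I'.mul_mem_left c (ha x)) (I''.mul_mem_left c (hb x))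
          (by rw [map_mul, hqa]; rfl) (by rw [map_mul, hqb]; rfl) _ ?_).symm
        rw [mult_smul, hw]; ring }
  refine ⟨φ, fun x hx x' x'' h1 h2 h3 h4 z hz => spec ⟨x, hx⟩ x' x'' h1 h2 h3 h4 z hz, fun ψ hψ => ?_⟩
  exact LinearMap.ext fun x => (hψ x x.2 (a x) (b x) (ha x) (hb x) (hqa x) (hqb x) (w x) (hw x)).symm

theorem existsUnique_lift [Module.Flat C A] [Module.Flat C (A ⧸ I')] (hnil : IsNilpotent (maximalIdeal C))
    (hJ : maximalIdeal C * J = ⊥) (hJne : J ≠ ⊤)
    (hI' : I'.map (Ideal.Quotient.mk (J.map (algebraMap C A))) = I)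
    (φ : ↥I →ₗ[A] ((A1 J A ⧸ I) ⊗[C] J)) :
    ∃! I'' : Ideal A, Module.Flat C (A ⧸ I'') ∧
      I''.map (Ideal.Quotient.mk (J.map (algebraMap C A))) = I ∧
      ∀ (x : A1 J A) (hx : x ∈ I) (x' x'' : A), x' ∈ I' → x'' ∈ I'' →
        Ideal.Quotient.mk (J.map (algebraMap C A)) x' = x → Ideal.Quotient.mk (J.map (algebraMap C A)) x'' = x →
        ∀ z : A ⊗[C] J, multMap A J z = x'' - x' → red I z = φ ⟨x, hx⟩ := by
  let q := Ideal.Quotient.mk (J.map (algebraMap C A))
  have hs : Function.Surjective q := Ideal.Quotient.mk_surjective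
  have hJm : J ≤ maximalIdeal C := IsLocalRing.le_maximalIdeal hJne
  have hmem : ∀ x ∈ I', q x ∈ I := fun x hx => hI'.le (Ideal.mem_map_of_mem q hx)
  let I'' : Ideal A :=
    { carrier := {x'' | ∃ x', ∃ h : x' ∈ I', Diff I x' x'' (φ ⟨q x', hmem x' h⟩)}
      zero_mem' := ⟨0, zero_mem _, 0, by simp, by
        rw [map_zero, show (⟨q 0, hmem 0 (zero_mem _)⟩ : I) = 0 from Subtype.ext (map_zero q), map_zero]⟩
      add_mem' := by
        rintro x y ⟨x', hx', z, hz, hzt⟩ ⟨y', hy', w, hw, hwt⟩
        refine ⟨x' + y', add_mem hx' hy', z + w, by rw [map_add, hz, hw]; ring, ?_⟩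
        rw [map_add, hzt, hwt, ← map_add]
        exact congrArg φ (Subtype.ext (map_add q x' y').symm)
      smul_mem' := by
        rintro c x ⟨x', hx', z, hz, hzt⟩
        refine ⟨c * x', I'.mul_mem_left c hx', c • z, by rw [mult_smul, hz, smul_eq_mul]; ring, ?_⟩
        rw [red_smul, hzt, ← map_smul]
        exact congrArg φ (Subtype.ext (map_mul q c x').symm) }
  have hq'' : ∀ {x' x'' : A} {t}, Diff I x' x'' t → q x'' = q x' := fun {x' x'' t} ⟨z, hz, _⟩ => by
    rw [← sub_eq_zero, ← map_sub, ← hz]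
    exact mk_mult z
  have cond : ∀ (x : A1 J A) (hx : x ∈ I) (x' x'' : A), x' ∈ I' → x'' ∈ I'' →
      q x' = x → q x'' = x → ∀ z : A ⊗[C] J, multMap A J z = x'' - x' → red I z = φ ⟨x, hx⟩ := by
    rintro x hx x' x'' hx' ⟨y', hy', hd⟩ h' h'' z hz
    refine (Diff.unique hI'.le hx' hy' ⟨z, hz, rfl⟩ hd).trans (congrArg φ (Subtype.ext ?_))
    exact (hq'' hd).symm.trans h''
  have hmap : I''.map q = I := by
    refine le_antisymm (Ideal.map_le_iff_le_comap.2 ?_) fun x hx => ?_
    · rintro x ⟨x', hx', hd⟩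
      rw [Ideal.mem_comap, hq'' hd]
      exact hmem x' hx'
    · obtain ⟨x', hx', rfl⟩ := (Ideal.mem_map_iff_of_surjective q hs).1 (hI'.ge hx)
      obtain ⟨z, hz⟩ := red_surjective (φ ⟨q x', hx⟩)
      have hd : x' + multMap A J z ∈ I'' := ⟨x', hx', z, (add_sub_cancel_left _ _).symm, hz⟩
      have := Ideal.mem_map_of_mem q hd
      rwa [map_add, mk_mult, add_zero] at this
  -- killed by the maximal ideal
  have hkill : ∀ (N : Type u) [AddCommGroup N] [Module C N], ∀ c ∈ maximalIdeal C, ∀ t : N ⊗[C] J, c • t = 0 := by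
    intro N _ _ c hc t
    induction t using TensorProduct.induction_on with
    | zero => simp
    | add a b ha hb => rw [smul_add, ha, hb, add_zero]
    | tmul b j =>
      rw [← TensorProduct.tmul_smul, show c • j = 0 from Subtype.ext
        (Ideal.mem_bot.1 (hJ.le (Ideal.mul_mem_mul hc j.2))), TensorProduct.tmul_zero]
  have hJK : ∀ {L : Ideal A}, L.map q = I → ∀ x ∈ J • ((I.comap q).restrictScalars C), x ∈ L := by
    intro L hL x hx
    refine Submodule.smul_induction_on hx (fun c hc k hk => ?_) (fun a b => add_mem)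
    obtain ⟨u, hu, huk⟩ := (Ideal.mem_map_iff_of_surjective q hs).1 (hL.ge (show q k ∈ I from hk))
    obtain ⟨v, hv⟩ := exists_mult (J := J) (A := A) huk.symm
    have hv0 : c • multMap A J v = 0 := by rw [← map_smul, hkill A c (hJm hc) v, map_zero]
    rw [hv, smul_sub, sub_eq_zero] at hv0
    rw [hv0, Algebra.smul_def]
    exact L.mul_mem_left _ hu
  refine ⟨I'', ⟨?_, hmap, cond⟩, ?_⟩
  · -- flatness
    let IC : Submodule C A := I'.restrictScalars C
    let g : IC →ₗ[C] (A1 J A ⧸ I) ⊗[C] J :=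
      { toFun := fun x => φ ⟨q x.1, hmem x.1 x.2⟩
        map_add' := fun x y => by rw [← map_add]; exact congrArg φ (Subtype.ext (map_add q x.1 y.1))
        map_smul' := fun c x => by
          rw [RingHom.id_apply, ← LinearMap.map_smul_of_tower]
          refine congrArg φ (Subtype.ext ?_)
          change q (c • x.1) = c • q x.1
          rfl }
    let π : A →ₗ[C] A ⧸ I' := (Ideal.Quotient.mkₐ C I').toLinearMap
    have hker : LinearMap.ker π = IC := SetLike.ext fun z => Ideal.Quotient.eq_zero_iff_mem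
    obtain ⟨ψ, hψ⟩ := exists_extend_of_mod IC.subtype (fun x hx => by
        rw [Submodule.mem_smul_top_iff]
        have := ker_inf_smul_le π Ideal.Quotient.mk_surjective (maximalIdeal C) ⟨hker.ge x.2, hx⟩
        rwa [hker] at this) g (hkill _)
    obtain ⟨s, hs'⟩ := exists_section_of_killed (red I) red_surjective (hkill A)
    let ν : A →ₗ[C] A := multMap A J ∘ₗ s ∘ₗ ψ
    have hν0 : ∀ y ∈ maximalIdeal C • (⊤ : Submodule C A), ν y = 0 := by
      intro y hy
      refine Submodule.smul_induction_on hy (fun c hc m _ => ?_) (fun a b ha hb => by rw [map_add, ha, hb, add_zero])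
      change multMap A J (s (ψ (c • m))) = 0
      rw [map_smul, hkill _ c hc, map_zero, map_zero]
    have hνm : ∀ y, ν y ∈ maximalIdeal C • (⊤ : Submodule C A) := fun y => by
      rw [Ideal.smul_top_eq_map]
      exact Ideal.map_mono (f := algebraMap C A) hJm (Ideal.Quotient.eq_zero_iff_mem.1 (mk_mult (s (ψ y))))
    let u : A ≃ₗ[C] A := LinearEquiv.ofLinearMap (LinearMap.id + ν) (LinearMap.id - ν)
      (LinearMap.ext fun y => by
        change (y - ν y) + ν (y - ν y) = y
        rw [map_sub, hν0 _ (hνm y)]; abel)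
      (LinearMap.ext fun y => by
        change (y + ν y) - ν (y + ν y) = y
        rw [map_add, hν0 _ (hνm y)]; abel)
    have hu : IC.map (u : A →ₗ[C] A) = I''.restrictScalars C := by
      refine le_antisymm ?_ fun x'' hx'' => ?_
      · rintro _ ⟨x, hx, rfl⟩
        refine ⟨x, hx, s (ψ x), (add_sub_cancel_left x (ν x)).symm, ?_⟩
        rw [show red I (s (ψ x)) = ψ x from LinearMap.congr_fun hs' _]
        exact LinearMap.congr_fun hψ ⟨x, hx⟩
      · obtain ⟨x', hx', z, hz, hzt⟩ := hx''
        have h0 : red I (z - s (ψ x')) = 0 := by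
          rw [map_sub, hzt, show red I (s (ψ x')) = ψ x' from LinearMap.congr_fun hs' _,
            show ψ x' = φ ⟨q x', hmem x' hx'⟩ from LinearMap.congr_fun hψ ⟨x', hx'⟩, sub_self]
        have hd := hJK hI' _ (red_eq_zero_iff h0)
        have hdm : multMap A J (z - s (ψ x')) ∈ maximalIdeal C • (⊤ : Submodule C A) := by
          rw [Ideal.smul_top_eq_map]
          exact Ideal.map_mono (f := algebraMap C A) hJm (Ideal.Quotient.eq_zero_iff_mem.1 (mk_mult _))
        refine ⟨x' + multMap A J (z - s (ψ x')), add_mem hx' hd, ?_⟩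
        change (x' + multMap A J (z - s (ψ x'))) + ν (x' + multMap A J (z - s (ψ x'))) = x''
        rw [map_add ν, hν0 _ hdm, map_sub, hz]
        change x' + (x'' - x' - ν x') + (ν x' + 0) = x''
        abel
    exact Module.Flat.of_linearEquiv (((Submodule.Quotient.restrictScalarsEquiv C I'').symm).trans
      ((Submodule.Quotient.equiv IC _ u hu).symm.trans (Submodule.Quotient.restrictScalarsEquiv C I')))
  · rintro L ⟨-, hLI, hLc⟩
    refine le_antisymm (fun x'' hx'' => ?_) fun x'' hx'' => ?_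
    · have hx := hLI.le (Ideal.mem_map_of_mem q hx'')
      obtain ⟨x', hx', hxx⟩ := (Ideal.mem_map_iff_of_surjective q hs).1 (hI'.ge hx)
      obtain ⟨z, hz⟩ := exists_mult (J := J) (A := A) hxx.symm
      exact ⟨x', hx', z, hz, (hLc _ hx x' x'' hx' hx'' hxx rfl z hz).trans
        (congrArg φ (Subtype.ext hxx.symm))⟩
    · obtain ⟨x', hx', z, hz, hzt⟩ := hx''
      obtain ⟨y, hy, hyx⟩ := (Ideal.mem_map_iff_of_surjective q hs).1 (hLI.ge (hmem x' hx'))
      obtain ⟨w, hw⟩ := exists_mult (J := J) (A := A) hyx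
      have h0 : red I (z - w) = 0 := by
        rw [map_sub, hzt, hLc _ (hmem x' hx') x' y hx' hy rfl hyx w hw, sub_self]
      have := hJK hLI _ (red_eq_zero_iff h0)
      rw [map_sub, hz, hw, sub_sub_sub_cancel_right] at this
      simpa using add_mem this hy

end Hilb

end DefLib
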