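import Groth.Prelude.Def_Exal
import Mathlib.RingTheory.Flat.Basic
import Mathlib.LinearAlgebra.TensorProduct.RightExactness
import Mathlib.LinearAlgebra.Basis.VectorSpace
import Mathlib.RingTheory.Ideal.Quotient.Operations
import Mathlib.Algebra.Algebra.Prod
import Mathlib.Algebra.Algebra.Subalgebra.Lattice

/-!
# Flat lifts of an algebra along a small thickening form a torsor under extensions of the special fibre
-/

set_option autoImplicit false
set_option maxHeartbeats 1600000
set_option backward.isDefEq.respectTransparency false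

universe u

open TensorProduct

noncomputable section

namespace DefLib

/-- The fixed data: a thickening `C' → C'/J` with `m J = 0` and an algebra `B` with special fibre `B0`. -/
structure Ctx (k C' B0 B : Type u) [Field k] [CommRing C'] [Algebra k C'] [CommRing B0] [Algebra k B0]
    [CommRing B] [Algebra C' B] where
  res : C' →ₐ[k] k
  J : Ideal C'
  le_ker : ∀ j ∈ J, res j = 0
  mul_eq_zero : ∀ c, res c = 0 → ∀ j ∈ J, c * j = 0
  pB : B →+* B0
  pB_surjective : Function.Surjective pB
  pB_algebraMap : ∀ c, pB (algebraMap C' B c) = algebraMap k B0 (res c)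
  pB_ker : RingHom.ker pB ≤ (RingHom.ker res.toRingHom).map (algebraMap C' B)

variable {k C' B0 B : Type u} [Field k] [CommRing C'] [Algebra k C'] [CommRing B0] [Algebra k B0]
  [CommRing B] [Algebra C' B]

/-- The coefficient module of the extensions. -/
abbrev Ctx.N (S : Ctx k C' B0 B) : Type u := B0 ⊗[k] S.J

/-- A flat lift of `B`. -/
structure Lift (S : Ctx k C' B0 B) : Type (u + 1) where
  E : Type u
  [commRing : CommRing E]
  [algebra : Algebra C' E]
  flat : Module.Flat C' E
  π : E →ₐ[C'] B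
  π_surjective : Function.Surjective π
  π_ker : RingHom.ker π.toRingHom ≤ S.J.map (algebraMap C' E)
  π_kills : ∀ j ∈ S.J, π (algebraMap C' E j) = 0

namespace Lift

variable {S : Ctx k C' B0 B}

instance (L : Lift S) : CommRing L.E := L.commRing
instance (L : Lift S) : Algebra C' L.E := L.algebra
instance (L : Lift S) : Module.Flat C' L.E := L.flat

/-- The map to the special fibre. -/
def p (L : Lift S) : L.E →+* B0 := S.pB.comp L.π.toRingHom

variable (L : Lift S)

lemma p_apply (e : L.E) : L.p e = S.pB (L.π e) := rfl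

lemma p_algebraMap (c : C') : L.p (algebraMap C' L.E c) = algebraMap k B0 (S.res c) := by
  rw [p_apply, L.π.commutes, S.pB_algebraMap]

lemma p_surjective : Function.Surjective L.p := S.pB_surjective.comp L.π_surjective

lemma p_ker_le : RingHom.ker L.p ≤ (RingHom.ker S.res.toRingHom).map (algebraMap C' L.E) := by
  intro e he
  have h1 : L.π e ∈ (RingHom.ker S.res.toRingHom).map (algebraMap C' B) := S.pB_ker he
  rw [← L.π.comp_algebraMap, ← Ideal.map_map] at h1
  obtain ⟨d, hd, hde⟩ := (Ideal.mem_map_iff_of_surjective _ L.π_surjective).1 h1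
  have h2 : e - d ∈ (RingHom.ker S.res.toRingHom).map (algebraMap C' L.E) := by
    refine Ideal.map_mono (f := algebraMap C' L.E) (fun j hj => S.le_ker j hj) (L.π_ker ?_)
    rw [RingHom.mem_ker]
    change L.π (e - d) = 0
    rw [map_sub, sub_eq_zero]
    exact hde.symm
  simpa using add_mem h2 hd

lemma J_mul_eq_zero {e : L.E} (he : L.p e = 0) {j : C'} (hj : j ∈ S.J) : algebraMap C' L.E j * e = 0 := by
  refine Submodule.span_induction (fun x hx => ?_) (mul_zero _) (fun a b _ _ ha hb => ?_) (fun a b _ hb => ?_)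
    (L.p_ker_le he)
  · obtain ⟨c, hc, rfl⟩ := hx
    rw [← map_mul, mul_comm, S.mul_eq_zero c hc j hj, map_zero]
  · rw [mul_add, ha, hb, add_zero]
  · rw [smul_eq_mul, mul_left_comm, hb, mul_zero]

/-- A set-theoretic lift from the special fibre. -/
def s (b : B0) : L.E := (L.p_surjective b).choose

lemma p_s (b : B0) : L.p (L.s b) = b := (L.p_surjective b).choose_spec

lemma J_mul_eq {j : C'} (hj : j ∈ S.J) {e e' : L.E} (h : L.p e = L.p e') :
    algebraMap C' L.E j * e = algebraMap C' L.E j * e' := by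
  rw [← sub_eq_zero, ← mul_sub]
  exact L.J_mul_eq_zero (by rw [map_sub, h, sub_self]) hj

/-- The kernel of a lift is `B0 ⊗ J`. -/
def ι : S.N →+ L.E :=
  TensorProduct.liftAddHom
    { toFun := fun b =>
        { toFun := fun j => algebraMap C' L.E j.1 * L.s b
          map_zero' := by simp
          map_add' := fun x y => by simp [add_mul] }
      map_zero' := AddMonoidHom.ext fun j => by
        change algebraMap C' L.E j.1 * L.s 0 = 0
        exact L.J_mul_eq_zero (L.p_s 0) j.2
      map_add' := fun x y => AddMonoidHom.ext fun j => by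
        change algebraMap C' L.E j.1 * L.s (x + y) = algebraMap C' L.E j.1 * L.s x + algebraMap C' L.E j.1 * L.s y
        rw [← mul_add]
        exact L.J_mul_eq j.2 (by rw [map_add, p_s, p_s, p_s]) }
    fun c b j => by
      change algebraMap C' L.E j.1 * L.s (c • b) = algebraMap C' L.E (c • j : S.J).1 * L.s b
      rw [Submodule.coe_smul_of_tower, Algebra.smul_def c (j : C'), map_mul, mul_assoc, mul_left_comm]
      refine L.J_mul_eq j.2 ?_
      rw [map_mul, p_s, p_s, p_algebraMap, S.res.commutes, Algebra.algebraMap_self, RingHom.id_apply,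
        Algebra.smul_def]

lemma ι_tmul (b : B0) (j : S.J) {e : L.E} (he : L.p e = b) : L.ι (b ⊗ₜ j) = algebraMap C' L.E j * e := by
  change algebraMap C' L.E j.1 * L.s b = _
  exact L.J_mul_eq j.2 (by rw [p_s, he])

lemma π_ι (n : S.N) : L.π (L.ι n) = 0 := by
  induction n using TensorProduct.induction_on with
  | zero => simp
  | add a b ha hb => rw [map_add, map_add, ha, hb, add_zero]
  | tmul b j => rw [L.ι_tmul b j (L.p_s b), map_mul, L.π_kills j j.2, zero_mul]

lemma p_ι (n : S.N) : L.p (L.ι n) = 0 := by rw [p_apply, π_ι, map_zero]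

lemma mul_ι (e : L.E) (n : S.N) : e * L.ι n = L.ι (L.p e • n) := by
  induction n using TensorProduct.induction_on with
  | zero => simp
  | add a b ha hb => rw [map_add, mul_add, ha, hb, smul_add, map_add]
  | tmul b j =>
    rw [L.ι_tmul b j (L.p_s b), TensorProduct.smul_tmul', smul_eq_mul,
      L.ι_tmul _ j (e := e * L.s b) (by rw [map_mul, p_s]), mul_left_comm]

lemma exists_ι_eq {e : L.E} (he : L.π e = 0) : ∃ n, L.ι n = e := by
  refine Submodule.span_induction (fun x hx => ?_) ⟨0, map_zero _⟩ (fun a b _ _ ha hb => ?_) (fun a b _ hb => ?_)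
    (L.π_ker he)
  · obtain ⟨j, hj, rfl⟩ := hx
    exact ⟨(1 : B0) ⊗ₜ ⟨j, hj⟩, by rw [L.ι_tmul 1 ⟨j, hj⟩ (e := 1) (map_one _), mul_one]⟩
  · obtain ⟨m, rfl⟩ := ha
    obtain ⟨m', rfl⟩ := hb
    exact ⟨m + m', map_add _ _ _⟩
  · obtain ⟨m, rfl⟩ := hb
    exact ⟨L.p a • m, (L.mul_ι a m).symm⟩

/-- `E ⊗ J → B0 ⊗ J`. -/
def redTensor : L.E ⊗[C'] S.J →+ S.N :=
  TensorProduct.liftAddHom
    { toFun := fun e =>
        { toFun := fun j => L.p e ⊗ₜ j
          map_zero' := TensorProduct.tmul_zero _ _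
          map_add' := fun x y => TensorProduct.tmul_add _ _ _ }
      map_zero' := AddMonoidHom.ext fun j => by
        change L.p 0 ⊗ₜ[k] j = 0
        rw [map_zero, TensorProduct.zero_tmul]
      map_add' := fun x y => AddMonoidHom.ext fun j => by
        change L.p (x + y) ⊗ₜ[k] j = L.p x ⊗ₜ j + L.p y ⊗ₜ j
        rw [map_add, TensorProduct.add_tmul] }
    fun c e j => by
      change L.p (c • e) ⊗ₜ[k] j = L.p e ⊗ₜ (c • j)
      rw [Algebra.smul_def, map_mul, p_algebraMap, ← Algebra.smul_def, TensorProduct.smul_tmul]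
      congr 1
      refine Subtype.ext ?_
      rw [Submodule.coe_smul_of_tower, Submodule.coe_smul_of_tower, Algebra.smul_def, smul_eq_mul,
        ← sub_eq_zero, ← sub_mul]
      exact S.mul_eq_zero _ (by rw [map_sub, S.res.commutes, Algebra.algebraMap_self, RingHom.id_apply, sub_self])
        _ j.2

lemma ι_injective : Function.Injective L.ι := (injective_iff_map_eq_zero _).2 fun x hx => by
  let mult : L.E ⊗[C'] S.J →ₗ[C'] L.E :=
    (TensorProduct.rid C' L.E).toLinearMap ∘ₗ LinearMap.lTensor L.E S.J.subtype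
  obtain ⟨y, rfl⟩ : ∃ y, L.redTensor y = x := by
    induction x using TensorProduct.induction_on with
    | zero => exact ⟨0, map_zero _⟩
    | add a b ha hb =>
      have ha' : ∀ z, L.ι z = 0 → True := fun _ _ => trivial
      clear hx ha hb
      have : ∀ z : S.N, ∃ y, L.redTensor y = z := fun z => by
        induction z using TensorProduct.induction_on with
        | zero => exact ⟨0, map_zero _⟩
        | add a b ha hb =>
          obtain ⟨u, rfl⟩ := ha
          obtain ⟨v, rfl⟩ := hb
          exact ⟨u + v, map_add _ _ _⟩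
        | tmul b j => exact ⟨L.s b ⊗ₜ j, by change L.p (L.s b) ⊗ₜ[k] j = b ⊗ₜ j; rw [p_s]⟩
      exact this _
    | tmul b j => exact ⟨L.s b ⊗ₜ j, by change L.p (L.s b) ⊗ₜ[k] j = b ⊗ₜ j; rw [p_s]⟩
  have key : ∀ z, L.ι (L.redTensor z) = mult z := fun z => by
    induction z using TensorProduct.induction_on with
    | zero => simp
    | add a b ha hb => rw [map_add, map_add, map_add, ha, hb]
    | tmul e j =>
      change L.ι (L.p e ⊗ₜ j) = (j : C') • e
      rw [L.ι_tmul _ j rfl, Algebra.smul_def]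
  rw [key] at hx
  have hy : y = 0 := Module.Flat.lTensor_preserves_injective_linearMap (M := L.E) S.J.subtype
    Subtype.val_injective ((TensorProduct.rid C' L.E).injective (by
      rw [map_zero, map_zero]; exact hx))
  rw [hy, map_zero]

/-- Maps of lifts are compatible with the identification of the kernels. -/
lemma hom_ι {L L' : Lift S} (φ : L.E →ₐ[C'] L'.E) (h : ∀ e, L'.π (φ e) = L.π e) (n : S.N) :
    φ (L.ι n) = L'.ι n := by
  induction n using TensorProduct.induction_on with
  | zero => simp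
  | add a b ha hb => rw [map_add, map_add, map_add, ha, hb]
  | tmul b j =>
    rw [L.ι_tmul b j (L.p_s b), map_mul, φ.commutes,
      L'.ι_tmul b j (e := φ (L.s b)) (by rw [p_apply, h, ← p_apply, p_s])]

/-- A map of lifts is bijective. -/
lemma hom_bijective {L L' : Lift S} (φ : L.E →ₐ[C'] L'.E) (h : ∀ e, L'.π (φ e) = L.π e) :
    Function.Bijective φ := by
  refine ⟨(injective_iff_map_eq_zero _).2 fun e he => ?_, fun e' => ?_⟩
  · obtain ⟨n, rfl⟩ := L.exists_ι_eq (show L.π e = 0 by rw [← h, he, map_zero])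
    rw [hom_ι φ h] at he
    rw [L'.ι_injective (he.trans (map_zero L'.ι).symm), map_zero]
  · obtain ⟨e, he⟩ := L.π_surjective (L'.π e')
    obtain ⟨n, hn⟩ := L'.exists_ι_eq (show L'.π (e' - φ e) = 0 by rw [map_sub, h, he, sub_self])
    exact ⟨e + L.ι n, by rw [map_add, hom_ι φ h, hn, add_sub_cancel]⟩

/-- Lifts up to isomorphism over `B`. -/
def setoid (S : Ctx k C' B0 B) : Setoid (Lift S) where
  r L L' := ∃ φ : L.E →ₐ[C'] L'.E, ∀ e, L'.π (φ e) = L.π e
  iseqv :=
    ⟨fun L => ⟨AlgHom.id C' L.E, fun _ => rfl⟩, fun {L L'} ⟨φ, h⟩ =>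
      ⟨(AlgEquiv.ofBijective φ (hom_bijective φ h)).symm.toAlgHom, fun e => by
        obtain ⟨e, rfl⟩ := (AlgEquiv.ofBijective φ (hom_bijective φ h)).surjective e
        rw [AlgEquiv.coe_toAlgHom, AlgEquiv.symm_apply_apply]
        exact (h e).symm⟩,
      fun ⟨φ, h⟩ ⟨φ', h'⟩ => ⟨φ'.comp φ, fun e => (h' _).trans (h e)⟩⟩

/-! ### The difference of two lifts -/

variable (L₀ : Lift S)

/-- `L₀ ×_B L`. -/
def prodB : Subalgebra C' (L₀.E × L.E) :=
  AlgHom.equalizer (L₀.π.comp (AlgHom.fst C' L₀.E L.E)) (L.π.comp (AlgHom.snd C' L₀.E L.E))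

/-- `m · (L₀ ×_B L)`. -/
def mProd : Ideal (prodB L L₀) :=
  (RingHom.ker S.res.toRingHom).map (algebraMap C' (prodB L L₀))

lemma exists_snd (e₀ : L₀.E) : ∃ w : prodB L L₀, w.1.1 = e₀ := by
  obtain ⟨e, he⟩ := L.π_surjective (L₀.π e₀)
  exact ⟨⟨(e₀, e), he.symm⟩, rfl⟩

lemma p_snd (w : prodB L L₀) : L.p w.1.2 = L₀.p w.1.1 := by
  rw [p_apply, p_apply]; exact congrArg S.pB w.2.symm

/-- `(0, ι n)`. -/
def zι (n : S.N) : prodB L L₀ := ⟨(0, L.ι n), show L₀.π 0 = L.π (L.ι n) by rw [map_zero, π_ι]⟩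

lemma eq_zero_of_mem_mProd {w : prodB L L₀} (hw : w ∈ mProd L L₀) (h1 : w.1.1 = 0) : w = 0 := by
  let M := RingHom.ker S.res.toRingHom
  let g : prodB L L₀ →ₗ[C'] L₀.E := ((AlgHom.fst C' L₀.E L.E).comp (prodB L L₀).val).toLinearMap
  let mW : prodB L L₀ ⊗[C'] M →ₗ[C'] prodB L L₀ :=
    (TensorProduct.rid C' _).toLinearMap ∘ₗ LinearMap.lTensor _ M.subtype
  let mE : L₀.E ⊗[C'] M →ₗ[C'] L₀.E :=
    (TensorProduct.rid C' _).toLinearMap ∘ₗ LinearMap.lTensor _ M.subtype
  obtain ⟨y, rfl⟩ : ∃ y, mW y = w := by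
    refine Submodule.span_induction (fun x hx => ?_) ⟨0, map_zero _⟩ (fun a b _ _ ha hb => ?_)
      (fun a b _ hb => ?_) hw
    · obtain ⟨c, hc, rfl⟩ := hx
      exact ⟨1 ⊗ₜ ⟨c, hc⟩, (Algebra.algebraMap_eq_smul_one c).symm⟩
    · obtain ⟨u, rfl⟩ := ha
      obtain ⟨v, rfl⟩ := hb
      exact ⟨u + v, map_add _ _ _⟩
    · obtain ⟨u, rfl⟩ := hb
      have key : ∀ v, mW (LinearMap.rTensor M (LinearMap.mulLeft C' a) v) = a * mW v := fun v => by
        induction v using TensorProduct.induction_on with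
        | zero => simp
        | add x y hx hy => rw [map_add, map_add, map_add, hx, hy, mul_add]
        | tmul x c =>
          change (c : C') • (a * x) = a * ((c : C') • x)
          rw [mul_smul_comm]
      exact ⟨LinearMap.rTensor M (LinearMap.mulLeft C' a) u, key u⟩
  have hcomm : ∀ z, mE (LinearMap.rTensor M g z) = g (mW z) := fun z => by
    induction z using TensorProduct.induction_on with
    | zero => simp
    | add x y hx hy => simp only [map_add, hx, hy]
    | tmul x c => exact (map_smul g (c : C') x).symm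
  have hy0 : LinearMap.rTensor M g y = 0 :=
    Module.Flat.lTensor_preserves_injective_linearMap (M := L₀.E) M.subtype Subtype.val_injective
      ((TensorProduct.rid C' L₀.E).injective (by
        rw [map_zero, map_zero]; exact (hcomm y).trans h1))
  have hex := LinearMap.exact_subtype_ker_map g
  obtain ⟨z, rfl⟩ := (rTensor_exact (M := LinearMap.ker g) M hex
    (show Function.Surjective g from exists_snd L L₀) y).1 hy0
  clear hy0 hw h1
  induction z using TensorProduct.induction_on with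
  | zero => simp
  | add x y hx hy => simp only [map_add, hx, hy, add_zero]
  | tmul x c =>
    change (c : C') • x.1 = 0
    obtain ⟨n, hn⟩ := L.exists_ι_eq (show L.π x.1.1.2 = 0 by
      rw [← show L₀.π x.1.1.1 = L.π x.1.1.2 from x.1.2, show x.1.1.1 = 0 from x.2, map_zero])
    refine Subtype.ext (Prod.ext ?_ ?_)
    · change (c : C') • x.1.1.1 = 0
      rw [show x.1.1.1 = 0 from x.2, smul_zero]
    · change (c : C') • x.1.1.2 = 0
      rw [← hn, Algebra.smul_def, L.mul_ι, p_algebraMap, show S.res (c : C') = 0 from c.2, map_zero,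
        zero_smul, map_zero]

lemma exists_mem_mProd {e₀ : L₀.E} (he : L₀.p e₀ = 0) : ∃ w ∈ mProd L L₀, w.1.1 = e₀ := by
  refine Submodule.span_induction (fun x hx => ?_) ⟨0, zero_mem _, rfl⟩ (fun a b _ _ ha hb => ?_)
    (fun a b _ hb => ?_) (L₀.p_ker_le he)
  · obtain ⟨c, hc, rfl⟩ := hx
    exact ⟨algebraMap C' _ c, Ideal.mem_map_of_mem _ hc, rfl⟩
  · obtain ⟨u, hu, rfl⟩ := ha
    obtain ⟨v, hv, rfl⟩ := hb
    exact ⟨u + v, add_mem hu hv, rfl⟩
  · obtain ⟨u, hu, rfl⟩ := hb
    obtain ⟨w, rfl⟩ := exists_snd L L₀ a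
    exact ⟨w * u, Ideal.mul_mem_left _ _ hu, rfl⟩

lemma diag_mem (n : S.N) : ∃ w ∈ mProd L L₀, w.1 = (L₀.ι n, L.ι n) := by
  induction n using TensorProduct.induction_on with
  | zero => exact ⟨0, zero_mem _, by rw [map_zero]; first | rfl | (rw [map_zero]; rfl)⟩
  | add a b ha hb =>
    obtain ⟨u, hu, hu'⟩ := ha
    obtain ⟨v, hv, hv'⟩ := hb
    exact ⟨u + v, add_mem hu hv, by
      rw [map_add, map_add]
      exact (congrArg₂ (· + ·) hu' hv')⟩
  | tmul b j =>
    obtain ⟨w, hw⟩ := exists_snd L L₀ (L₀.s b)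
    refine ⟨algebraMap C' _ j.1 * w,
      Ideal.mul_mem_right _ _ (Ideal.mem_map_of_mem _ (S.le_ker _ j.2)), Prod.ext ?_ ?_⟩
    · change algebraMap C' L₀.E j.1 * w.1.1 = L₀.ι (b ⊗ₜ j)
      rw [hw, L₀.ι_tmul b j (L₀.p_s b)]
    · change algebraMap C' L.E j.1 * w.1.2 = L.ι (b ⊗ₜ j)
      rw [L.ι_tmul b j (by rw [p_snd, hw, p_s])]

/-- The carrier of the difference. -/
def DE : Type u := prodB L L₀ ⧸ mProd L L₀

instance : CommRing (DE L L₀) := inferInstanceAs (CommRing (prodB L L₀ ⧸ mProd L L₀))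

instance : Algebra C' (DE L L₀) := inferInstanceAs (Algebra C' (prodB L L₀ ⧸ mProd L L₀))

instance : Algebra k (DE L L₀) := ((algebraMap C' (DE L L₀)).comp (algebraMap k C')).toAlgebra

/-- The difference of two lifts, an extension of the special fibre. -/
def diff : Exal.Ext k B0 S.N :=
  { E := DE L L₀
    proj :=
      { Ideal.Quotient.lift (mProd L L₀)
          (L₀.p.comp ((AlgHom.fst C' L₀.E L.E).comp (prodB L L₀).val).toRingHom) (fun w hw => by
          refine Submodule.span_induction (fun x hx => ?_) (map_zero _) (fun a b _ _ ha hb => ?_)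
            (fun a b _ hb => ?_) hw
          · obtain ⟨c, hc, rfl⟩ := hx
            change L₀.p (algebraMap C' L₀.E c) = 0
            rw [p_algebraMap, show S.res c = 0 from hc, map_zero]
          · rw [map_add, ha, hb, add_zero]
          · rw [smul_eq_mul, map_mul, hb, mul_zero]) with
        commutes' := fun c => by
          change L₀.p (algebraMap C' L₀.E (algebraMap k C' c)) = algebraMap k B0 c
          rw [p_algebraMap, S.res.commutes]
          rfl }
    incl :=
      { toFun := fun n => Ideal.Quotient.mk _ (zι L L₀ n)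
        map_zero' := (congrArg (Ideal.Quotient.mk (mProd L L₀))
          (Subtype.ext (Prod.ext rfl (map_zero L.ι)) : zι L L₀ 0 = 0)).trans (map_zero _)
        map_add' := fun a b => (congrArg (Ideal.Quotient.mk (mProd L L₀))
          (Subtype.ext (Prod.ext (add_zero (0 : L₀.E)).symm (map_add L.ι a b)) :
            zι L L₀ (a + b) = zι L L₀ a + zι L L₀ b)).trans (map_add _ _ _) }
    isExtension :=
      { proj_surjective := fun b => by
          obtain ⟨w, hw⟩ := exists_snd L L₀ (L₀.s b)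
          exact ⟨Ideal.Quotient.mk _ w, show L₀.p w.1.1 = b by rw [hw, p_s]⟩
        incl_injective := fun a b h => by
          have h' := Ideal.Quotient.eq.1 (h : Ideal.Quotient.mk _ (zι L L₀ a) = Ideal.Quotient.mk _ (zι L L₀ b))
          have h2 := eq_zero_of_mem_mProd L L₀ h' (sub_self _)
          exact L.ι_injective (sub_eq_zero.1 (congrArg (fun w : prodB L L₀ => w.1.2) h2))
        exact := fun z => by
          constructor
          · intro hz
            obtain ⟨w, rfl⟩ := Ideal.Quotient.mk_surjective z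
            obtain ⟨v, hv, hv1⟩ := exists_mem_mProd L L₀ (show L₀.p w.1.1 = 0 from hz)
            have h0 : (w - v).1.1 = 0 := by
              change w.1.1 - v.1.1 = 0
              rw [hv1, sub_self]
            obtain ⟨n, hn⟩ := L.exists_ι_eq (show L.π (w - v).1.2 = 0 by
              rw [← show L₀.π (w - v).1.1 = L.π (w - v).1.2 from (w - v).2, h0, map_zero])
            refine ⟨n, ?_⟩
            change Ideal.Quotient.mk _ (zι L L₀ n) = _
            rw [show zι L L₀ n = w - v from Subtype.ext (Prod.ext h0.symm hn), map_sub,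
              Ideal.Quotient.eq_zero_iff_mem.2 hv, sub_zero]
          · rintro ⟨n, rfl⟩
            change L₀.p 0 = 0
            exact map_zero _
        mul_incl := fun z n => by
          obtain ⟨w, rfl⟩ := Ideal.Quotient.mk_surjective z
          change Ideal.Quotient.mk _ w * Ideal.Quotient.mk _ (zι L L₀ n) =
            Ideal.Quotient.mk _ (zι L L₀ (L₀.p w.1.1 • n))
          refine ((map_mul (Ideal.Quotient.mk (mProd L L₀)) _ _).symm).trans
            (congrArg _ (Subtype.ext (Prod.ext (mul_zero w.1.1) ?_)))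
          change w.1.2 * L.ι n = L.ι _
          rw [mul_ι, p_snd] } }

lemma diff_incl (n : S.N) : (diff L L₀).incl n = Ideal.Quotient.mk (mProd L L₀) (zι L L₀ n) := rfl

/-! ### The lift of an extension -/

/-- The carrier of an extension, as a `C'`-algebra through the augmentation. -/
def XC (S : Ctx k C' B0 B) (X : Exal.Ext k B0 S.N) : Type u := X.E

instance (X : Exal.Ext k B0 S.N) : CommRing (XC S X) := inferInstanceAs (CommRing X.E)

instance (X : Exal.Ext k B0 S.N) : Algebra C' (XC S X) :=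
  ((algebraMap k X.E).comp S.res.toRingHom).toAlgebra

variable (X : Exal.Ext k B0 S.N)

/-- The projection of an extension. -/
def prX : XC S X →+* B0 := X.proj.toRingHom

/-- The inclusion of an extension. -/
def inX : S.N →+ XC S X := X.incl

/-- `L₀ ×_{B0} X`. -/
def prod0 : Subalgebra C' (L₀.E × XC S X) where
  carrier := {y | L₀.p y.1 = prX X y.2}
  mul_mem' {a b} (ha : _ = _) (hb : _ = _) := by
    change L₀.p (a.1 * b.1) = prX X (a.2 * b.2)
    rw [map_mul, map_mul, ha, hb]
  add_mem' {a b} (ha : _ = _) (hb : _ = _) := by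
    change L₀.p (a.1 + b.1) = prX X (a.2 + b.2)
    rw [map_add, map_add, ha, hb]
  algebraMap_mem' c := by
    change L₀.p (algebraMap C' L₀.E c) = X.proj (algebraMap k X.E (S.res c))
    rw [p_algebraMap, X.proj.commutes]

lemma inX_proj (n : S.N) : prX X (inX X n) = 0 := (X.isExtension.exact _).2 ⟨n, rfl⟩

lemma mul_inX (x : XC S X) (n : S.N) : x * inX X n = inX X (prX X x • n) := X.isExtension.mul_incl x n

/-- The relations `(ι n, - incl n)`. -/
def relI : Ideal (prod0 L₀ X) where
  carrier := {y | ∃ n, y.1 = (L₀.ι n, -inX X n)}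
  zero_mem' := ⟨0, by rw [map_zero, map_zero, neg_zero]; rfl⟩
  add_mem' := by
    rintro a b ⟨n, hn⟩ ⟨m, hm⟩
    exact ⟨n + m, by
      change a.1 + b.1 = _
      rw [hn, hm, map_add, map_add, neg_add, Prod.mk_add_mk]⟩
  smul_mem' := by
    rintro y a ⟨n, hn⟩
    refine ⟨L₀.p y.1.1 • n, ?_⟩
    change y.1 * a.1 = _
    rw [hn]
    refine Prod.ext ?_ ?_
    · exact L₀.mul_ι _ _
    · change y.1.2 * -inX X n = -inX X _
      rw [mul_neg, mul_inX, show L₀.p y.1.1 = prX X y.1.2 from y.2]

/-- The map to `B`. -/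
def πmodel : (prod0 L₀ X ⧸ relI L₀ X) →ₐ[C'] B :=
  Ideal.Quotient.liftₐ _ (L₀.π.comp ((AlgHom.fst C' L₀.E (XC S X)).comp (prod0 L₀ X).val)) (fun y hy => by
    obtain ⟨n, hn⟩ := hy
    change L₀.π y.1.1 = 0
    rw [hn]
    exact L₀.π_ι n)

/-- A linear section of the projection of an extension. -/
def secX : B0 →ₗ[k] X.E :=
  (LinearMap.exists_rightInverse_of_surjective X.proj.toLinearMap
    (LinearMap.range_eq_top.2 X.isExtension.proj_surjective)).choose

lemma proj_secX (b : B0) : X.proj (secX X b) = b :=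
  LinearMap.congr_fun (LinearMap.exists_rightInverse_of_surjective X.proj.toLinearMap
    (LinearMap.range_eq_top.2 X.isExtension.proj_surjective)).choose_spec b

/-- `e ↦ (e, sec (p e))`, linear. -/
def linSec : L₀.E →ₗ[C'] prod0 L₀ X where
  toFun e := ⟨(e, secX X (L₀.p e)), (proj_secX X _).symm⟩
  map_add' a b := Subtype.ext (Prod.ext rfl (by
    change secX X (L₀.p (a + b)) = secX X (L₀.p a) + secX X (L₀.p b)
    rw [map_add, map_add]))
  map_smul' c e := Subtype.ext (Prod.ext rfl (by
    change secX X (L₀.p (c • e)) = algebraMap k X.E (S.res c) * secX X (L₀.p e)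
    rw [Algebra.smul_def, map_mul, p_algebraMap, ← Algebra.smul_def, map_smul, Algebra.smul_def]))

lemma fst_ι_zero_mem (n : S.N) :
    ∃ y ∈ S.J.map (algebraMap C' (prod0 L₀ X)), y.1 = (L₀.ι n, 0) := by
  induction n using TensorProduct.induction_on with
  | zero => exact ⟨0, zero_mem _, by rw [map_zero]; first | rfl | (rw [map_zero]; rfl)⟩
  | add a b ha hb =>
    obtain ⟨u, hu, hu'⟩ := ha
    obtain ⟨v, hv, hv'⟩ := hb
    exact ⟨u + v, add_mem hu hv, by
      change u.1 + v.1 = _
      rw [hu', hv', map_add, Prod.mk_add_mk, add_zero]⟩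
  | tmul b j =>
    refine ⟨algebraMap C' _ j.1 * linSec L₀ X (L₀.s b), Ideal.mul_mem_right _ _ (Ideal.mem_map_of_mem _ j.2),
      Prod.ext ?_ ?_⟩
    · exact (L₀.ι_tmul b j (L₀.p_s b)).symm
    · change algebraMap k X.E (S.res j.1) * _ = 0
      rw [S.le_ker _ j.2, map_zero, zero_mul]

/-- The lift attached to an extension. -/
def model : Lift S where
  E := prod0 L₀ X ⧸ relI L₀ X
  flat := by
    let f : L₀.E →ₗ[C'] prod0 L₀ X ⧸ relI L₀ X := (Ideal.Quotient.mkₐ C' (relI L₀ X)).toLinearMap ∘ₗ linSec L₀ X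
    have hinj : Function.Injective f := (injective_iff_map_eq_zero _).2 fun e he => by
      obtain ⟨n, hn⟩ := Ideal.Quotient.eq_zero_iff_mem.1 (he : Ideal.Quotient.mk _ (linSec L₀ X e) = 0)
      have h1 : e = L₀.ι n := congrArg Prod.fst hn
      have h2 : secX X (L₀.p e) = -X.incl n := congrArg Prod.snd hn
      rw [h1, p_ι, map_zero, eq_comm, neg_eq_zero] at h2
      rw [h1, X.isExtension.incl_injective (h2.trans (map_zero X.incl).symm), map_zero]
    have hsurj : Function.Surjective f := fun z => by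
      obtain ⟨y, rfl⟩ := Ideal.Quotient.mk_surjective z
      obtain ⟨n, hn⟩ := (X.isExtension.exact ((show X.E from y.1.2) - secX X (L₀.p y.1.1))).1 (by
        rw [map_sub, proj_secX]
        exact sub_eq_zero.2 (show X.proj y.1.2 = L₀.p y.1.1 from y.2.symm))
      refine ⟨y.1.1 + L₀.ι n, Ideal.Quotient.eq.2 ⟨n, Prod.ext ?_ ?_⟩⟩
      · change y.1.1 + L₀.ι n - y.1.1 = L₀.ι n
        abel
      · change secX X (L₀.p (y.1.1 + L₀.ι n)) - (show X.E from y.1.2) = -X.incl n
        rw [map_add, p_ι, add_zero, hn]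
        exact (neg_sub _ _).symm
    exact Module.Flat.of_linearEquiv (LinearEquiv.ofBijective f ⟨hinj, hsurj⟩).symm
  π := πmodel L₀ X
  π_surjective b := by
    obtain ⟨e, rfl⟩ := L₀.π_surjective b
    exact ⟨Ideal.Quotient.mk _ (linSec L₀ X e), rfl⟩
  π_ker := by
    intro z hz
    obtain ⟨y, rfl⟩ := Ideal.Quotient.mk_surjective z
    obtain ⟨n, hn⟩ := L₀.exists_ι_eq (show L₀.π y.1.1 = 0 from hz)
    obtain ⟨m, hm⟩ := (X.isExtension.exact y.1.2).1 (by
      have h : L₀.p y.1.1 = X.proj y.1.2 := y.2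
      rw [← hn, p_ι] at h
      exact h.symm)
    obtain ⟨v, hv, hv'⟩ := fst_ι_zero_mem L₀ X (n + m)
    have heq : Ideal.Quotient.mk (relI L₀ X) y = Ideal.Quotient.mk (relI L₀ X) v := by
      refine Ideal.Quotient.eq.2 ⟨-m, ?_⟩
      change y.1 - v.1 = _
      rw [hv']
      refine Prod.ext ?_ ?_
      · change y.1.1 - L₀.ι (n + m) = L₀.ι (-m)
        rw [← hn, map_add, map_neg]; abel
      · change y.1.2 - 0 = -inX X (-m)
        rw [sub_zero, map_neg, neg_neg]
        exact hm.symm
    rw [heq, show algebraMap C' (prod0 L₀ X ⧸ relI L₀ X) =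
      (Ideal.Quotient.mk (relI L₀ X)).comp (algebraMap C' (prod0 L₀ X)) from rfl, ← Ideal.map_map]
    exact Ideal.mem_map_of_mem _ hv
  π_kills j hj := by
    rw [AlgHom.commutes, ← L₀.π.commutes]
    exact L₀.π_kills j hj

lemma model_ι (n : S.N) :
    ∃ y : prod0 L₀ X, y.1 = (0, inX X n) ∧ (model L₀ X).ι n = Ideal.Quotient.mk (relI L₀ X) y := by
  refine ⟨⟨(0, inX X n), show L₀.p 0 = prX X (inX X n) by rw [map_zero, inX_proj]⟩, rfl, ?_⟩
  obtain ⟨v, -, hv'⟩ := fst_ι_zero_mem L₀ X n
  have h1 : (model L₀ X).ι n = Ideal.Quotient.mk (relI L₀ X) v := by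
    have key : ∀ m, ∃ v : prod0 L₀ X, v.1 = (L₀.ι m, 0) ∧
        (model L₀ X).ι m = Ideal.Quotient.mk (relI L₀ X) v := by
      intro m
      induction m using TensorProduct.induction_on with
      | zero => exact ⟨0, by rw [map_zero]; rfl, by rw [map_zero, map_zero]⟩
      | add a b ha hb =>
        obtain ⟨u, hu, hu'⟩ := ha
        obtain ⟨w, hw, hw'⟩ := hb
        refine ⟨u + w, ?_, ?_⟩
        · change u.1 + w.1 = _
          rw [hu, hw, map_add, Prod.mk_add_mk, add_zero]
        · rw [map_add, map_add, hu', hw']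
      | tmul b j =>
        refine ⟨algebraMap C' _ j.1 * linSec L₀ X (L₀.s b), Prod.ext ?_ ?_, ?_⟩
        · exact (L₀.ι_tmul b j (L₀.p_s b)).symm
        · change algebraMap k X.E (S.res j.1) * _ = 0
          rw [S.le_ker _ j.2, map_zero, zero_mul]
        · exact (model L₀ X).ι_tmul b j (e := Ideal.Quotient.mk _ (linSec L₀ X (L₀.s b))) (L₀.p_s b)
    obtain ⟨v', hv'', hv3⟩ := key n
    rw [hv3, show v' = v from Subtype.ext (hv''.trans hv'.symm)]
  rw [h1]
  refine Ideal.Quotient.eq.2 ⟨n, ?_⟩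
  change v.1 - (0, inX X n) = _
  rw [hv', Prod.mk_sub_mk, sub_zero, zero_sub]

/-! ### The bijection -/

lemma ext_hom_bijective {X Y : Exal.Ext k B0 S.N} (f : X.E →+* Y.E) (hp : ∀ x, Y.proj (f x) = X.proj x)
    (hi : ∀ n, f (X.incl n) = Y.incl n) : Function.Bijective f := by
  refine ⟨(injective_iff_map_eq_zero _).2 fun x hx => ?_, fun y => ?_⟩
  · obtain ⟨n, rfl⟩ := (X.isExtension.exact x).1 (by rw [← hp, hx, map_zero])
    rw [hi] at hx
    rw [Y.isExtension.incl_injective (hx.trans (map_zero Y.incl).symm), map_zero]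
  · obtain ⟨x, hx⟩ := X.isExtension.proj_surjective (Y.proj y)
    obtain ⟨n, hn⟩ := (Y.isExtension.exact (y - f x)).1 (by rw [map_sub, hp, hx, sub_self])
    exact ⟨x + X.incl n, by rw [map_add, hi, hn, add_sub_cancel]⟩

lemma cl_eq_of_hom {X Y : Exal.Ext k B0 S.N} (f : X.E →ₐ[k] Y.E) (hp : ∀ x, Y.proj (f x) = X.proj x)
    (hi : ∀ n, f (X.incl n) = Y.incl n) : X.cl = Y.cl :=
  Quotient.sound (s := Exal.Ext.setoid k B0 S.N)
    ⟨{ toAlgEquiv := AlgEquiv.ofBijective f (ext_hom_bijective f.toRingHom hp hi)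
       proj_apply := hp
       apply_incl := hi }⟩

variable {L} in
lemma diff_congr {L' : Lift S} (φ : L.E →ₐ[C'] L'.E) (h : ∀ e, L'.π (φ e) = L.π e) :
    (diff L L₀).cl = (diff L' L₀).cl := by
  let Φ : prodB L L₀ →ₐ[C'] prodB L' L₀ :=
    (((AlgHom.fst C' L₀.E L.E).prod (φ.comp (AlgHom.snd C' L₀.E L.E))).comp (prodB L L₀).val).codRestrict _
      fun w => show L₀.π w.1.1 = L'.π (φ w.1.2) by rw [h]; exact w.2
  have hle : mProd L L₀ ≤ (mProd L' L₀).comap Φ.toRingHom := by
    rw [mProd, Ideal.map_le_iff_le_comap]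
    intro c hc
    change Φ (algebraMap C' _ c) ∈ mProd L' L₀
    rw [Φ.commutes]
    exact Ideal.mem_map_of_mem _ hc
  refine cl_eq_of_hom
    { Ideal.quotientMap (mProd L' L₀) Φ.toRingHom hle with
      commutes' := fun c => congrArg (Ideal.Quotient.mk (mProd L' L₀)) (Φ.commutes _) } (fun z => ?_) fun n => ?_
  · obtain ⟨w, rfl⟩ := Ideal.Quotient.mk_surjective z
    rfl
  · change Ideal.Quotient.mk _ (Φ (zι L L₀ n)) = Ideal.Quotient.mk _ (zι L' L₀ n)
    exact congrArg _ (Subtype.ext (Prod.ext rfl (hom_ι φ h n)))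

lemma model_congr {X Y : Exal.Ext k B0 S.N} (e : X.Equiv Y) :
    (setoid S).r (model L₀ X) (model L₀ Y) := by
  let f : XC S X →ₐ[C'] XC S Y :=
    { (e.toAlgEquiv : X.E →ₐ[k] Y.E).toRingHom with commutes' := fun c => e.toAlgEquiv.commutes (S.res c) }
  let Φ : prod0 L₀ X →ₐ[C'] prod0 L₀ Y :=
    (((AlgHom.fst C' L₀.E (XC S X)).prod (f.comp (AlgHom.snd C' L₀.E (XC S X)))).comp (prod0 L₀ X).val).codRestrict _
      fun y => show L₀.p y.1.1 = Y.proj (e.toAlgEquiv y.1.2) by rw [e.proj_apply]; exact y.2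
  refine ⟨Ideal.quotientMapₐ (relI L₀ Y) Φ ?_, fun z => ?_⟩
  · rintro y ⟨n, hn⟩
    refine ⟨n, Prod.ext ?_ ?_⟩
    · exact (congrArg Prod.fst hn : _)
    · change e.toAlgEquiv y.1.2 = -Y.incl n
      rw [show y.1.2 = -X.incl n from congrArg Prod.snd hn, map_neg, e.apply_incl]
  · obtain ⟨y, rfl⟩ := Ideal.Quotient.mk_surjective z
    rfl

lemma diff_model : X.cl = (diff (model L₀ X) L₀).cl := by
  let W := prodB (model L₀ X) L₀
  let Θ : prod0 L₀ X →ₐ[C'] W :=
    (((AlgHom.fst C' L₀.E (XC S X)).comp (prod0 L₀ X).val).prod (Ideal.Quotient.mkₐ C' (relI L₀ X))).codRestrict W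
      fun y => rfl
  let q : prod0 L₀ X →+* (diff (model L₀ X) L₀).E := (Ideal.Quotient.mk (mProd (model L₀ X) L₀)).comp Θ.toRingHom
  have hsur : ∀ x : XC S X, ∃ y : prod0 L₀ X, y.1.2 = x := fun x => by
    obtain ⟨e, he⟩ := L₀.p_surjective (prX X x)
    exact ⟨⟨(e, x), he⟩, rfl⟩
  have hq : ∀ y : prod0 L₀ X, y.1.2 = 0 → q y = 0 := by
    intro y hy
    have hp : L₀.p y.1.1 = 0 := (show L₀.p y.1.1 = prX X y.1.2 from y.2).trans (by rw [hy, map_zero])
    obtain ⟨y', hy', hy'1⟩ : ∃ y' ∈ (RingHom.ker S.res.toRingHom).map (algebraMap C' (prod0 L₀ X)),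
        y'.1 = (y.1.1, 0) := by
      refine Submodule.span_induction (fun x hx => ?_) ⟨0, zero_mem _, rfl⟩ (fun a b _ _ ha hb => ?_)
        (fun a b _ hb => ?_) (L₀.p_ker_le hp)
      · obtain ⟨c, hc, rfl⟩ := hx
        refine ⟨algebraMap C' _ c, Ideal.mem_map_of_mem _ hc, Prod.ext rfl ?_⟩
        change algebraMap k X.E (S.res c) = 0
        rw [show S.res c = 0 from hc, map_zero]
      · obtain ⟨u, hu, hu'⟩ := ha
        obtain ⟨v, hv, hv'⟩ := hb
        exact ⟨u + v, add_mem hu hv, by
          change u.1 + v.1 = _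
          rw [hu', hv', Prod.mk_add_mk, add_zero]⟩
      · obtain ⟨u, hu, hu'⟩ := hb
        exact ⟨linSec L₀ X a * u, Ideal.mul_mem_left _ _ hu, by
          change (linSec L₀ X a).1 * u.1 = _
          rw [hu']
          exact Prod.ext rfl (mul_zero _)⟩
    rw [show y = y' from Subtype.ext (Prod.ext (congrArg Prod.fst hy'1).symm
      (hy.trans (congrArg Prod.snd hy'1).symm))]
    refine Ideal.Quotient.eq_zero_iff_mem.2 ?_
    have := Ideal.mem_map_of_mem Θ.toRingHom hy'
    rw [Ideal.map_map] at this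
    rwa [show Θ.toRingHom.comp (algebraMap C' (prod0 L₀ X)) = algebraMap C' W from Θ.comp_algebraMap] at this
  choose g hg using hsur
  have hg' : ∀ (y : prod0 L₀ X) (x : XC S X), y.1.2 = x → q y = q (g x) := fun y x h => by
    rw [← sub_eq_zero, ← map_sub]
    refine hq _ ?_
    change y.1.2 - (g x).1.2 = 0
    rw [h, hg, sub_self]
  let f : X.E →ₐ[k] (diff (model L₀ X) L₀).E :=
    { toFun := fun x => q (g x)
      map_one' := (hg' 1 1 rfl).symm.trans (map_one q)
      map_zero' := (hg' 0 0 rfl).symm.trans (map_zero q)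
      map_add' := fun x x' => (hg' (g x + g x') _ (congrArg₂ (· + ·) (hg x) (hg x'))).symm.trans (map_add q _ _)
      map_mul' := fun x x' => (hg' (g x * g x') _ (congrArg₂ (· * ·) (hg x) (hg x'))).symm.trans (map_mul q _ _)
      commutes' := fun c => by
        refine (hg' (algebraMap C' _ (algebraMap k C' c)) _ ?_).symm.trans ?_
        · change algebraMap k X.E (S.res (algebraMap k C' c)) = _
          rw [S.res.commutes]; rfl
        · exact congrArg (Ideal.Quotient.mk _) (Θ.commutes _) }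
  refine cl_eq_of_hom f (fun x => ?_) fun n => ?_
  · change L₀.p (g x).1.1 = X.proj x
    rw [show L₀.p (g x).1.1 = prX X (g x).1.2 from (g x).2, hg]
    rfl
  · obtain ⟨y, hy, hy'⟩ := model_ι L₀ X n
    refine ((hg' y _ (congrArg Prod.snd hy)).symm).trans ?_
    rw [diff_incl]
    refine congrArg (Ideal.Quotient.mk _) ?_
    refine Subtype.ext ?_
    refine Prod.ext ?_ ?_
    · exact (congrArg (fun z : L₀.E × XC S X => z.1) hy : _)
    · exact hy'.symm

lemma model_diff : (setoid S).r L (model L₀ (diff L L₀)) := by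
  let Y := prod0 L₀ (diff L L₀)
  let Θ : prodB L L₀ →ₐ[C'] L₀.E × XC S (diff L L₀) :=
    ((AlgHom.fst C' L₀.E L.E).comp (prodB L L₀).val).prod
      { (Ideal.Quotient.mk (mProd L L₀) : prodB L L₀ →+* _) with
        commutes' := fun c => by
          change Ideal.Quotient.mk (mProd L L₀) (algebraMap C' _ c) =
            Ideal.Quotient.mk (mProd L L₀) (algebraMap C' _ (algebraMap k C' (S.res c)))
          rw [Ideal.Quotient.eq, ← map_sub]
          refine Ideal.mem_map_of_mem _ ?_
          rw [RingHom.mem_ker]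
          change S.res (c - algebraMap k C' (S.res c)) = 0
          rw [map_sub, S.res.commutes]
          exact sub_self _ }
  let Θ' : prodB L L₀ →ₐ[C'] (model L₀ (diff L L₀)).E :=
    (Ideal.Quotient.mkₐ C' (relI L₀ (diff L L₀))).comp (Θ.codRestrict Y fun w => rfl)
  have hsnd : Function.Surjective ((AlgHom.snd C' L₀.E L.E).comp (prodB L L₀).val) := fun e => by
    obtain ⟨e₀, he⟩ := L₀.π_surjective (L.π e)
    exact ⟨⟨(e₀, e), he⟩, rfl⟩
  refine ⟨AlgHom.liftOfSurjective _ hsnd Θ' fun w hw => ?_, fun e => ?_⟩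
  · obtain ⟨n, hn⟩ := L₀.exists_ι_eq (show L₀.π w.1.1 = 0 by
      rw [show L₀.π w.1.1 = L.π w.1.2 from w.2, show w.1.2 = 0 from hw, map_zero])
    refine Ideal.Quotient.eq_zero_iff_mem.2 ⟨n, Prod.ext hn.symm ?_⟩
    change Ideal.Quotient.mk (mProd L L₀) w = -Ideal.Quotient.mk (mProd L L₀) (zι L L₀ n)
    rw [← map_neg, Ideal.Quotient.eq, sub_neg_eq_add]
    obtain ⟨v, hv, hv'⟩ := diag_mem L L₀ n
    convert hv using 1
    refine Subtype.ext (Eq.trans (Prod.ext ?_ ?_) hv'.symm)
    · change w.1.1 + 0 = L₀.ι n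
      rw [add_zero, hn]
    · change w.1.2 + L.ι n = L.ι n
      rw [show w.1.2 = 0 from hw, zero_add]
  · obtain ⟨w, rfl⟩ := hsnd e
    rw [AlgHom.liftOfSurjective_apply]
    exact w.2

/-- Lifts are classified, relative to a given one, by extensions of the special fibre by `B0 ⊗ J`. -/
def equivExal : Quotient (setoid S) ≃ Exal.Exalcom k B0 S.N where
  toFun := Quotient.lift (fun L => (diff L L₀).cl) fun _ _ ⟨φ, h⟩ => diff_congr L₀ φ h
  invFun := Quotient.lift (fun X => Quotient.mk (setoid S) (model L₀ X))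
    fun _ _ ⟨e⟩ => Quotient.sound (model_congr L₀ e)
  left_inv := fun q => by
    induction q using Quotient.inductionOn with
    | h L => exact Quotient.sound ((setoid S).iseqv.symm (model_diff L L₀))
  right_inv := fun q => by
    induction q using Quotient.inductionOn with
    | h X => exact (diff_model L₀ X).symm

end Lift

end DefLib
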