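import Groth.Prelude.Def_W4bk4hartshdef114Obs
import Mathlib.RingTheory.Filtration
import Mathlib.RingTheory.HopkinsLevitzki
import Mathlib.RingTheory.Ideal.Quotient.Noetherian
import Mathlib.Tactic.LinearCombination
import Mathlib.RingTheory.Nakayama
import Mathlib.RingTheory.Artinian.Ring
import Mathlib.LinearAlgebra.TensorProduct.Basis
import Mathlib.LinearAlgebra.Dimension.Free
import Mathlib.LinearAlgebra.FiniteDimensional.Defs
import Mathlib.RingTheory.LocalRing.ResidueField.Basic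

/-!
# An obstruction space bounds the number of equations
-/

set_option autoImplicit false
set_option maxHeartbeats 1600000

universe u

open IsLocalRing
open scoped TensorProduct

noncomputable section

namespace DefLib

theorem exists_generators_card_le (k : Type u) [Field k] (P : Type u) [CommRing P] [IsLocalRing P]
    [IsNoetherianRing P] [Algebra k P]
    (hres : Function.Surjective (algebraMap k (IsLocalRing.ResidueField P)))
    (I : Ideal P) (hI : I ≤ maximalIdeal P ^ 2)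
    (V : Type u) [AddCommGroup V] [Module k V] [Module.Finite k V]
    (T : W4bk4hartshdef114.ObsTheory k (P ⧸ I) V) :
    ∃ s : Finset P, Ideal.span (s : Set P) = I ∧ s.card ≤ Module.finrank k V := by
  classical
  let m := maximalIdeal P
  obtain ⟨k0, hk0⟩ := Ideal.exists_pow_inf_eq_pow_smul (M := P) m I
  have hAR : m ^ (k0 + 1) ⊓ I ≤ m * I := by
    have h := hk0 (k0 + 1) (Nat.le_succ k0)
    rw [Nat.add_sub_cancel_left, pow_one, smul_eq_mul, smul_eq_mul, smul_eq_mul, Ideal.mul_top, Ideal.mul_top] at h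
    rw [h]
    exact Ideal.mul_mono_right inf_le_right
  obtain ⟨Q, hQ⟩ : ∃ Q : Ideal P, Q = m * I ⊔ m ^ (k0 + 1) := ⟨_, rfl⟩
  have hIm : I ≤ m := hI.trans (Ideal.pow_le_self two_ne_zero)
  have hQm : Q ≤ m := hQ.le.trans (sup_le (Ideal.mul_le_right.trans hIm) (Ideal.pow_le_self (Nat.succ_ne_zero k0)))
  haveI : Nontrivial (P ⧸ Q) := Ideal.Quotient.nontrivial_iff.2
    (fun h => (maximalIdeal.isMaximal P).ne_top (top_le_iff.1 (h ▸ hQm)))
  haveI : IsLocalRing (P ⧸ Q) := IsLocalRing.of_surjective' _ Ideal.Quotient.mk_surjective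
  haveI : IsLocalHom (Ideal.Quotient.mk Q) := Ideal.Quotient.mk_surjective.isLocalHom _
  haveI : IsArtinianRing (P ⧸ Q) := by
    rw [isArtinianRing_iff_isNilpotent_maximalIdeal]
    refine ⟨k0 + 1, ?_⟩
    have hmap : maximalIdeal (P ⧸ Q) = m.map (Ideal.Quotient.mk Q) := by
      refine le_antisymm (fun x hx => ?_) (Ideal.map_le_iff_le_comap.2 fun p hp => map_nonunit _ p hp)
      obtain ⟨p, rfl⟩ := Ideal.Quotient.mk_surjective x
      exact Ideal.mem_map_of_mem _ ((mem_maximalIdeal p).2 fun hu => (mem_maximalIdeal _).1 hx (hu.map _))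
    rw [hmap, ← Ideal.map_pow, Submodule.zero_eq_bot, Ideal.map_eq_bot_iff_le_ker, Ideal.mk_ker]
    exact le_sup_right.trans hQ.ge
  let J : Ideal (P ⧸ Q) := I.map (Ideal.Quotient.mk Q)
  have hkill : ∀ (a : P) (b : P), a ∈ m → b ∈ I → Ideal.Quotient.mk Q (a * b) = 0 := fun a b ha hb =>
    Ideal.Quotient.eq_zero_iff_mem.2 (hQ.ge (Ideal.mem_sup_left (Ideal.mul_mem_mul ha hb)))
  have hmem : ∀ x : P ⧸ Q, x ∈ nonunits (P ⧸ Q) → ∀ p, Ideal.Quotient.mk Q p = x → p ∈ m := fun x hx p hp =>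
    (mem_maximalIdeal p).2 fun hu => hx (hp ▸ hu.map _)
  have hresQ : ∀ x : P ⧸ Q, ∃ c : k, x - algebraMap k (P ⧸ Q) c ∈ nonunits (P ⧸ Q) := fun x => by
    obtain ⟨p, rfl⟩ := Ideal.Quotient.mk_surjective x
    obtain ⟨c, hc⟩ := hres (residue P p)
    refine ⟨c, ?_⟩
    have h1 : p - algebraMap k P c ∈ m := by
      rw [← residue_eq_zero_iff, map_sub, sub_eq_zero, ← hc]
      rfl
    exact map_nonunit (Ideal.Quotient.mk Q) _ h1
  have hJle : J ≤ maximalIdeal (P ⧸ Q) := Ideal.map_le_iff_le_comap.2 fun p hp => map_nonunit _ p (hIm hp)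
  have hsmall : W4bk4hartshdef114.IsSmallExt k (P ⧸ Q) J := by
    refine ⟨inferInstance, inferInstance, hresQ, fun x j hx hj => ?_,
      fun h => (maximalIdeal.isMaximal (P ⧸ Q)).ne_top (top_le_iff.1 (h ▸ hJle))⟩
    obtain ⟨b, hb, rfl⟩ := (Ideal.mem_map_iff_of_surjective _ Ideal.Quotient.mk_surjective).1 hj
    obtain ⟨a, rfl⟩ := Ideal.Quotient.mk_surjective x
    rw [← map_mul]
    exact hkill a b (hmem _ hx a rfl) hb
  let u : (P ⧸ I) →ₐ[k] (P ⧸ Q) ⧸ J :=
    Ideal.Quotient.liftₐ I ((Ideal.Quotient.mkₐ k J).comp (Ideal.Quotient.mkₐ k Q)) fun x hx =>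
      Ideal.Quotient.eq_zero_iff_mem.2 (Ideal.mem_map_of_mem (Ideal.Quotient.mk Q) hx)
  let b := Module.finBasis k V
  let f := TensorProduct.equivFinsuppOfBasisLeft b (T.obs (P ⧸ Q) J u)
  choose x hxI hxf using fun i => (Ideal.mem_map_iff_of_surjective _ Ideal.Quotient.mk_surjective).1 (f i).2
  let K : Ideal (P ⧸ Q) := (Ideal.span (Set.range x)).map (Ideal.Quotient.mk Q)
  have hX : Ideal.span (Set.range x) ≤ I := Ideal.span_le.2 fun _ ⟨i, hi⟩ => hi ▸ hxI i
  have hKJ : K ≤ J := Ideal.map_mono hX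
  -- the obstruction dies modulo `K`
  have hobs : T.obs ((P ⧸ Q) ⧸ K) (J.map (Ideal.Quotient.mkₐ k K))
      (((DoubleQuot.quotQuotEquivQuotOfLEₐ k hKJ).symm : ((P ⧸ Q) ⧸ J) →ₐ[k] _).comp u) = 0 := by
    rw [T.obs_quot _ J K hsmall hKJ u]
    have hf : T.obs (P ⧸ Q) J u = f.sum fun i n => b i ⊗ₜ n := by
      rw [← TensorProduct.equivFinsuppOfBasisLeft_symm_apply, LinearEquiv.symm_apply_apply]
    rw [hf, map_finsuppSum]
    refine Finset.sum_eq_zero fun i _ => ?_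
    change LinearMap.lTensor V _ (b i ⊗ₜ f i) = 0
    rw [LinearMap.lTensor_tmul, show W4bk4hartshdef114.idealToQuot k J K (f i) = 0 from Subtype.ext
      (Ideal.Quotient.eq_zero_iff_mem.2 (by
        rw [← hxf i]; exact Ideal.mem_map_of_mem _ (Ideal.subset_span ⟨i, rfl⟩))), TensorProduct.tmul_zero]
  let J' : Ideal ((P ⧸ Q) ⧸ K) := J.map (Ideal.Quotient.mkₐ k K)
  have hKtop : K ≠ ⊤ := fun h => (maximalIdeal.isMaximal (P ⧸ Q)).ne_top (top_le_iff.1 (h ▸ hKJ.trans hJle))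
  haveI : Nontrivial ((P ⧸ Q) ⧸ K) := Ideal.Quotient.nontrivial_iff.2 hKtop
  haveI : IsLocalRing ((P ⧸ Q) ⧸ K) := IsLocalRing.of_surjective' _ Ideal.Quotient.mk_surjective
  haveI : IsLocalHom (Ideal.Quotient.mk K) := Ideal.Quotient.mk_surjective.isLocalHom _
  have hJ'le : J' ≤ maximalIdeal ((P ⧸ Q) ⧸ K) := Ideal.map_le_iff_le_comap.2 fun p hp =>
    map_nonunit (Ideal.Quotient.mk K) p (hJle hp)
  have hJ'kill : ∀ y j : (P ⧸ Q) ⧸ K, y ∈ nonunits _ → j ∈ J' → y * j = 0 := by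
    intro y j hy hj
    obtain ⟨j, hj', rfl⟩ := (Ideal.mem_map_iff_of_surjective (Ideal.Quotient.mk K) Ideal.Quotient.mk_surjective).1 hj
    obtain ⟨y, rfl⟩ := Ideal.Quotient.mk_surjective y
    rw [← map_mul, hsmall.2.2.2.1 y j (fun hu => hy (hu.map _)) hj', map_zero]
  have hsmall' : W4bk4hartshdef114.IsSmallExt k ((P ⧸ Q) ⧸ K) J' := by
    refine ⟨inferInstance, inferInstance, fun y => ?_, hJ'kill,
      fun h => (maximalIdeal.isMaximal ((P ⧸ Q) ⧸ K)).ne_top (top_le_iff.1 (h ▸ hJ'le))⟩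
    obtain ⟨y, rfl⟩ := Ideal.Quotient.mk_surjective y
    obtain ⟨c, hc⟩ := hresQ y
    exact ⟨c, map_nonunit (Ideal.Quotient.mk K) _ hc⟩
  obtain ⟨u', hu'⟩ := (T.obs_eq_zero_iff _ J' hsmall' _).1 hobs
  let g1 : P →ₐ[k] (P ⧸ Q) ⧸ K := (Ideal.Quotient.mkₐ k K).comp (Ideal.Quotient.mkₐ k Q)
  let g2 : P →ₐ[k] (P ⧸ Q) ⧸ K := u'.comp (Ideal.Quotient.mkₐ k I)
  have hg : ∀ p, g1 p - g2 p ∈ J' := fun p => by
    refine (Ideal.Quotient.eq (I := J')).1 ?_
    have := DFunLike.congr_fun hu' (Ideal.Quotient.mk I p)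
    exact this.symm
  have hmax : ∀ p ∈ m, g1 p ∈ nonunits ((P ⧸ Q) ⧸ K) ∧ g2 p ∈ nonunits ((P ⧸ Q) ⧸ K) := fun p hp => by
    have h1 : g1 p ∈ maximalIdeal ((P ⧸ Q) ⧸ K) :=
      map_nonunit (Ideal.Quotient.mk K) _ (map_nonunit (Ideal.Quotient.mk Q) _ hp)
    refine ⟨h1, ?_⟩
    have := sub_mem h1 (hJ'le (hg p))
    rwa [sub_sub_cancel] at this
  have hsq : ∀ p ∈ m ^ 2, g1 p = g2 p := by
    intro p hp
    rw [pow_two] at hp
    refine Submodule.mul_induction_on hp (fun a ha c hc => ?_) (fun a c ha hc => by rw [map_add, map_add, ha, hc])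
    rw [map_mul, map_mul]
    have e1 := hJ'kill _ _ (hmax a ha).1 (hg c)
    have e2 := hJ'kill _ _ (hmax c hc).2 (hg a)
    linear_combination e1 + e2
  have hIX : I ≤ Ideal.span (Set.range x) ⊔ m * I := by
    intro p hp
    have h0 : g1 p = 0 := by
      rw [hsq p (hI hp)]
      change u' (Ideal.Quotient.mk I p) = 0
      rw [Ideal.Quotient.eq_zero_iff_mem.2 hp, map_zero]
    obtain ⟨y, hy, hyp⟩ := (Ideal.mem_map_iff_of_surjective _ Ideal.Quotient.mk_surjective).1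
      (Ideal.Quotient.eq_zero_iff_mem.1 (h0 : Ideal.Quotient.mk K (Ideal.Quotient.mk Q p) = 0))
    obtain ⟨q1, hq1, q2, hq2, hq⟩ := Submodule.mem_sup.1 (hQ.le (Ideal.Quotient.eq.1 hyp.symm))
    have h2 : q2 ∈ m * I := hAR ⟨hq2, by
      have : q2 = p - y - q1 := by rw [← hq]; ring
      rw [this]
      exact sub_mem (sub_mem hp (hX hy)) ((show m * I ≤ I from Ideal.mul_le_right) hq1)⟩
    exact Submodule.mem_sup.2 ⟨y, hy, q1 + q2, add_mem hq1 h2, by rw [hq]; ring⟩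
  have hle : I ≤ Ideal.span (Set.range x) :=
    Submodule.le_of_le_smul_of_le_jacobson_bot (I := m) (IsNoetherian.noetherian I)
      (by rw [jacobson_eq_maximalIdeal ⊥ bot_ne_top]) hIX
  refine ⟨Finset.univ.image x, ?_, Finset.card_image_le.trans (by simp)⟩
  rw [Finset.coe_image, Finset.coe_univ, Set.image_univ]
  exact le_antisymm hX hle

end DefLib
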