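import Groth.Agent.DefLib.ArtFlat
import Groth.Agent.CommAlgDim.CM
import Groth.Agent.SMTLib.CMQuot
import Groth.Prelude.Def_CAlg

/-!
# Regular sequences and flat deformations of complete intersections
-/

set_option autoImplicit false
set_option maxHeartbeats 1600000

universe u

open IsLocalRing RingTheory.Sequence

noncomputable section

namespace DefLib

variable {C : Type u} [CommRing C] [IsLocalRing C] [IsArtinianRing C] {A : Type u} [CommRing A] [Algebra C A]

lemma mA_nilpotent : IsNilpotent ((maximalIdeal C).map (algebraMap C A)) := by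
  obtain ⟨n, hn⟩ := (IsArtinianRing.isNilpotent_jacobson_bot (R := C))
  rw [IsLocalRing.jacobson_eq_maximalIdeal ⊥ bot_ne_top] at hn
  exact ⟨n, by rw [← Ideal.map_pow, hn, Submodule.zero_eq_bot, Ideal.map_bot]; rfl⟩

lemma maximalIdeal_isNilpotent : IsNilpotent (maximalIdeal C) := by
  obtain ⟨n, hn⟩ := (IsArtinianRing.isNilpotent_jacobson_bot (R := C))
  rw [IsLocalRing.jacobson_eq_maximalIdeal ⊥ bot_ne_top] at hn
  exact ⟨n, hn⟩

lemma isLocalRing_of_nilpotent_quotient {R : Type u} [CommRing R] {I : Ideal R} (hI : IsNilpotent I)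
    [IsLocalRing (R ⧸ I)] : IsLocalRing R := by
  have key : ∀ a : R, IsUnit (Ideal.Quotient.mk I a) → IsUnit a := fun a ha => by
    obtain ⟨b, hb⟩ := Ideal.Quotient.mk_surjective ((ha.unit⁻¹ : (R ⧸ I)ˣ) : R ⧸ I)
    have h1 : a * b - 1 ∈ I := by
      rw [← Ideal.Quotient.eq_zero_iff_mem, map_sub, map_mul, hb, map_one, sub_eq_zero]
      exact ha.mul_val_inv
    obtain ⟨n, hn⟩ := hI
    have h2 : IsUnit (a * b) := by
      have h3 : IsNilpotent (a * b - 1) := ⟨n, by
        have := Ideal.pow_mem_pow h1 n
        rw [hn] at this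
        exact this⟩
      have := h3.isUnit_add_one
      rwa [sub_add_cancel] at this
    exact isUnit_of_mul_isUnit_left h2
  haveI : Nontrivial R := (Ideal.Quotient.mk I).domain_nontrivial
  refine IsLocalRing.of_isUnit_or_isUnit_one_sub_self fun a => ?_
  rcases IsLocalRing.isUnit_or_isUnit_one_sub_self (Ideal.Quotient.mk I a) with h | h
  · exact Or.inl (key a h)
  · refine Or.inr (key _ ?_)
    rwa [map_sub, map_one]

lemma ofList_ofFn {R : Type u} [CommRing R] {r : ℕ} (a : Fin r → R) :
    Ideal.ofList (List.ofFn a) = Ideal.span (Set.range a) := by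
  rw [Ideal.ofList]
  congr 1
  ext x
  simp [List.mem_ofFn]

/-- Regularity on the reduction modulo `J` of a flat algebra with Cohen-Macaulay special fibre. -/
theorem isRegular_lift_and_flat (J : Ideal C) (hJ : J ≠ ⊤) [Module.Flat C A]
    [LocCoh.IsCohenMacaulayLocalRing (A ⧸ (maximalIdeal C).map (algebraMap C A))]
    {r : ℕ} (a : Fin r → A)
    (hreg : IsRegular (A ⧸ J.map (algebraMap C A))
      (List.ofFn fun i => Ideal.Quotient.mk (J.map (algebraMap C A)) (a i))) :
    IsRegular A (List.ofFn a) ∧ Module.Flat C (A ⧸ Ideal.span (Set.range a)) := by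
  let I := (maximalIdeal C).map (algebraMap C A)
  let A0 := A ⧸ I
  let A1 := A ⧸ J.map (algebraMap C A)
  have hJm : J.map (algebraMap C A) ≤ I := Ideal.map_mono (IsLocalRing.le_maximalIdeal hJ)
  haveI : IsNoetherianRing A := isNoetherianRing_of_nilpotent
    (I := I) (Ideal.FG.map (IsNoetherian.noetherian (maximalIdeal C)) _) mA_nilpotent
  haveI : IsLocalRing A := isLocalRing_of_nilpotent_quotient (I := I) mA_nilpotent
  haveI : Nontrivial A1 := by
    refine ⟨⟨0, 1, fun h => hreg.top_ne_smul ?_⟩⟩
    exact Subsingleton.elim (h := ⟨fun x y => SetLike.ext fun z => by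
      rw [show z = 0 from by rw [← one_mul z, ← h, zero_mul]]; simp⟩) _ _
  haveI : IsLocalRing A1 := IsLocalRing.of_surjective' _ Ideal.Quotient.mk_surjective
  let π : A1 →+* A0 := Ideal.Quotient.factor hJm
  have hπ : Function.Surjective π := Ideal.Quotient.factor_surjective hJm
  let as1 := List.ofFn fun i => Ideal.Quotient.mk (J.map (algebraMap C A)) (a i)
  let as0 := List.ofFn fun i => Ideal.Quotient.mk I (a i)
  have hmap : as0 = as1.map π := by
    simp only [as0, as1, List.map_ofFn]
    rfl
  have hmem1 := CommAlgDim.mem_maximalIdeal_of_isRegular hreg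
  haveI : IsLocalHom π := hπ.isLocalHom π
  have hmem0 : ∀ x ∈ as0, x ∈ maximalIdeal A0 := fun x hx => by
    rw [hmap] at hx
    obtain ⟨y, hy, rfl⟩ := List.mem_map.1 hx
    exact map_nonunit π y (hmem1 y hy)
  have hd : ringKrullDim (A0 ⧸ Ideal.ofList as0) + as0.length ≤ ringKrullDim A0 := by
    have h1 : ringKrullDim (A0 ⧸ Ideal.ofList as0) ≤ ringKrullDim (A1 ⧸ Ideal.ofList as1) := by
      let f : (A1 ⧸ Ideal.ofList as1) →+* (A0 ⧸ Ideal.ofList as0) :=
        Ideal.quotientMap _ π (by
          rw [Ideal.ofList, Ideal.span_le]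
          intro x hx
          exact Ideal.subset_span (by rw [hmap]; exact List.mem_map.2 ⟨x, hx, rfl⟩))
      exact ringKrullDim_le_of_surjective f (Ideal.quotientMap_surjective hπ)
    have h2 : ringKrullDim A1 ≤ ringKrullDim A0 := by
      have e0 : ringKrullDim A0 = ringKrullDim A := ringKrullDim_quotient_of_le_nilradical (fun x hx => by
        obtain ⟨n, hn⟩ := mA_nilpotent (C := C) (A := A)
        exact ⟨n, by have := Ideal.pow_mem_pow hx n; rw [hn] at this; exact this⟩)
      rw [e0]
      exact ringKrullDim_le_of_surjective _ Ideal.Quotient.mk_surjective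
    have h3 := ringKrullDim_add_length_eq_ringKrullDim_of_isRegular as1 hreg
    have hl : as0.length = as1.length := by simp [as0, as1]
    rw [hl]
    exact (add_le_add_left h1 _).trans (h3.le.trans h2)
  have hreg0 := CommAlgDim.isRegular_of_dim (SMTLib.isCM_of_isCohenMacaulayLocalRing A0) hmem0 hd
  obtain ⟨h1, h2⟩ := isWeaklyRegular_and_flat maximalIdeal_isNilpotent a hreg0.toIsWeaklyRegular
  refine ⟨IsRegular.of_isWeaklyRegular_of_mem_maximalIdeal A (fun x hx => ?_) h1, h2⟩
  obtain ⟨i, rfl⟩ := List.mem_ofFn.1 hx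
  exact (mem_maximalIdeal _).2 fun hu => (mem_maximalIdeal _).1 (hmem0 _ (List.mem_ofFn.2 ⟨i, rfl⟩)) (hu.map _)

/-- A flat deformation of a complete intersection is a complete intersection. -/
theorem exists_isRegular_generators [Module.Flat C A] (I : Ideal A) [Module.Flat C (A ⧸ I)] {r : ℕ}
    (b : Fin r → A ⧸ (maximalIdeal C).map (algebraMap C A))
    (hb : IsRegular (A ⧸ (maximalIdeal C).map (algebraMap C A)) (List.ofFn b))
    (hI : I.map (Ideal.Quotient.mk ((maximalIdeal C).map (algebraMap C A))) = Ideal.span (Set.range b)) :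
    ∃ a : Fin r → A, IsRegular A (List.ofFn a) ∧ I = Ideal.span (Set.range a) := by
  let q := Ideal.Quotient.mk ((maximalIdeal C).map (algebraMap C A))
  choose a haI hab using fun i => (Ideal.mem_map_iff_of_surjective q Ideal.Quotient.mk_surjective).1
    (hI.ge (Ideal.subset_span ⟨i, rfl⟩))
  have hrange : Ideal.span (Set.range a) ≤ I := Ideal.span_le.2 fun _ ⟨i, hi⟩ => hi ▸ haI i
  let K : Submodule C A := (Ideal.span (Set.range a)).restrictScalars C
  let IC : Submodule C A := I.restrictScalars C
  have hstep : IC ≤ K ⊔ maximalIdeal C • IC := by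
    intro x hx
    have h1 : q x ∈ (Ideal.span (Set.range a)).map q := by
      rw [Ideal.map_span, ← Set.range_comp, show (q : A → _) ∘ a = b from funext hab, ← hI]
      exact Ideal.mem_map_of_mem q hx
    obtain ⟨y, hy, hyx⟩ := (Ideal.mem_map_iff_of_surjective q Ideal.Quotient.mk_surjective).1 h1
    let π : A →ₗ[C] A ⧸ I := (Ideal.Quotient.mkₐ C I).toLinearMap
    have hker : LinearMap.ker π = IC := SetLike.ext fun z => Ideal.Quotient.eq_zero_iff_mem
    have h2 : x - y ∈ LinearMap.ker π ⊓ maximalIdeal C • (⊤ : Submodule C A) := by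
      refine ⟨hker.ge (sub_mem hx (hrange hy)), ?_⟩
      rw [Ideal.smul_top_eq_map]
      exact Ideal.Quotient.eq.1 hyx.symm
    have h3 := ker_inf_smul_le π Ideal.Quotient.mk_surjective (maximalIdeal C) h2
    rw [hker] at h3
    exact Submodule.mem_sup.2 ⟨y, hy, x - y, h3, by abel⟩
  have hIeq : I = Ideal.span (Set.range a) := by
    refine le_antisymm ?_ hrange
    obtain ⟨n, hn⟩ := maximalIdeal_isNilpotent (C := C)
    have key : ∀ j, IC ≤ K ⊔ maximalIdeal C ^ j • IC := by
      intro j
      induction j with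
      | zero => simp
      | succ j ih =>
        refine ih.trans (sup_le le_sup_left ?_)
        refine (Submodule.smul_mono le_rfl hstep).trans ?_
        rw [Submodule.smul_sup, ← Submodule.mul_smul, ← pow_succ]
        exact sup_le_sup_right Submodule.smul_le_right _
    intro x hx
    have h := key n hx
    rw [hn, Submodule.zero_eq_bot, Submodule.bot_smul, sup_bot_eq] at h
    exact h
  have hba : (fun i => q (a i)) = b := funext hab
  obtain ⟨h1, -⟩ := isWeaklyRegular_and_flat maximalIdeal_isNilpotent a (by rw [hba]; exact hb.toIsWeaklyRegular)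
  refine ⟨a, ⟨h1, fun htop => hb.top_ne_smul ?_⟩, hIeq⟩
  rw [smul_eq_mul, Ideal.mul_top, ofList_ofFn] at htop ⊢
  have := congrArg (Ideal.map q) htop
  rw [Ideal.map_top, Ideal.map_span, ← Set.range_comp, show (q : A → _) ∘ a = b from hba] at this
  exact this

end DefLib
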