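import Groth.Prelude.Def_CotT
import Mathlib.RingTheory.Nilpotent.Defs
import Mathlib.RingTheory.Polynomial.Basic
import Mathlib.RingTheory.Flat.Basic
import Mathlib.Algebra.Module.Projective

/-!
# Flat lifts of presented algebras exist when `T²` vanishes
-/

set_option autoImplicit false
set_option maxHeartbeats 1000000
set_option linter.unusedSectionVars false
set_option backward.isDefEq.respectTransparency false

universe u

open TensorProduct MvPolynomial

noncomputable section

namespace DefLib.Unobs

section NilNakayama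

variable {R : Type*} [CommRing R] {M : Type*} [AddCommGroup M] [Module R M]

lemma le_of_le_sup_smul {I : Ideal R} (hI : IsNilpotent I) {N N' : Submodule R M} (h : N ≤ N' ⊔ I • N) :
    N ≤ N' := by
  obtain ⟨n, hn⟩ := hI
  have key : ∀ j, N ≤ N' ⊔ I ^ j • N := by
    intro j
    induction j with
    | zero => simp
    | succ j ih =>
      refine ih.trans (sup_le le_sup_left ?_)
      calc I ^ j • N ≤ I ^ j • (N' ⊔ I • N) := Submodule.smul_mono le_rfl h
        _ ≤ _ := by
          rw [Submodule.smul_sup, ← Submodule.mul_smul, ← pow_succ]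
          exact sup_le_sup_right Submodule.smul_le_right _
  have := key n
  rwa [hn, Submodule.zero_eq_bot, Submodule.bot_smul, sup_bot_eq] at this

end NilNakayama

variable {k A A' B₀ : Type u} [Field k] [CommRing A] [CommRing A'] [CommRing B₀] [Algebra k B₀]
  {ι σ : Type u} (P : Algebra.Presentation k B₀ ι σ)
  (p : A' →+* A) (r : A →+* k) (ε : A')

/-- Reduction of polynomials over `A` to the polynomial ring of the presentation. -/
def red : MvPolynomial ι A →+* P.toExtension.Ring := MvPolynomial.map r

/-- Reduction of polynomials over `A'` to the special fibre. -/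
def q₀ : MvPolynomial ι A' →+* B₀ :=
  (algebraMap P.toExtension.Ring B₀).comp ((red P r).comp (MvPolynomial.map p))

/-- Coefficientwise change of rings in a free module. -/
def liftF : (σ →₀ MvPolynomial ι A') → (σ →₀ MvPolynomial ι A) :=
  Finsupp.mapRange (MvPolynomial.map p) (map_zero _)

/-- Coefficientwise reduction in a free module. -/
def redF : (σ →₀ MvPolynomial ι A) → CotT.relMod P :=
  Finsupp.mapRange (red P r) (map_zero _)

lemma liftF_add (a b : σ →₀ MvPolynomial ι A') : liftF p (a + b) = liftF p a + liftF p b :=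
  Finsupp.mapRange_add (map_add _) _ _

lemma redF_add (a b : σ →₀ MvPolynomial ι A) : redF P r (a + b) = redF P r a + redF P r b :=
  Finsupp.mapRange_add (map_add _) _ _

lemma redF_sub (a b : σ →₀ MvPolynomial ι A) : redF P r (a - b) = redF P r a - redF P r b :=
  Finsupp.mapRange_sub (map_sub _) _ _

lemma liftF_sub (a b : σ →₀ MvPolynomial ι A') : liftF p (a - b) = liftF p a - liftF p b :=
  Finsupp.mapRange_sub (map_sub _) _ _

lemma liftF_smul (x : MvPolynomial ι A') (a : σ →₀ MvPolynomial ι A') :
    liftF p (x • a) = MvPolynomial.map p x • liftF p a := by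
  ext s : 1
  simp [liftF]

lemma redF_smul (x : MvPolynomial ι A) (a : σ →₀ MvPolynomial ι A) :
    redF P r (x • a) = red P r x • redF P r a := by
  ext s : 1
  simp [redF]

lemma map_lc {R S : Type*} [CommRing R] [CommRing S] (g : R →+* S) (F : σ → R) (h : σ →₀ R) :
    g (Finsupp.linearCombination R F h) =
      Finsupp.linearCombination S (fun s => g (F s)) (Finsupp.mapRange g (map_zero g) h) := by
  induction h using Finsupp.induction_linear with
  | zero => simp
  | add a b ha hb => rw [map_add, map_add, ha, hb, Finsupp.mapRange_add (map_add g), map_add]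
  | single s a => simp [Finsupp.mapRange_single]

variable (hp : Function.Surjective p) (hpε : RingHom.ker p = Ideal.span {ε})
  (hε : ∀ c, c * ε = 0 ↔ r (p c) = 0)

include hpε in
lemma exists_eps {x : MvPolynomial ι A'} (hx : MvPolynomial.map p x = 0) : ∃ u, x = C ε * u := by
  have : x ∈ (RingHom.ker p).map (C : A' →+* MvPolynomial ι A') := by
    rw [← MvPolynomial.ker_map]
    exact hx
  rw [hpε, Ideal.map_span, Set.image_singleton, Ideal.mem_span_singleton'] at this
  obtain ⟨u, rfl⟩ := this
  exact ⟨u, mul_comm _ _⟩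

include hε in
lemma q₀_eq_zero {u : MvPolynomial ι A'} (h : C ε * u = 0) : q₀ P p r u = 0 := by
  have h' : (red P r).comp (MvPolynomial.map p) u = 0 := by
    refine MvPolynomial.ext _ _ fun m => ?_
    have hm : u.coeff m * ε = 0 := by
      rw [mul_comm, ← coeff_C_mul, h, coeff_zero]
    show MvPolynomial.coeff m (MvPolynomial.map r (MvPolynomial.map p u)) = _
    rw [coeff_map, coeff_map]
    exact (hε _).1 hm
  rw [q₀, RingHom.comp_apply, h', map_zero]

variable (F : σ → MvPolynomial ι A) (F' : σ → MvPolynomial ι A')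

/-- The value of a relation among `F` with respect to the lifts `F'`. -/
def Val (h : σ →₀ MvPolynomial ι A) (b : B₀) : Prop :=
  ∃ h' u, liftF p h' = h ∧ Finsupp.linearCombination _ F' h' = C ε * u ∧ q₀ P p r u = b

variable (hF' : ∀ s, MvPolynomial.map p (F' s) = F s) (hF : ∀ s, red P r (F s) = CotT.rel P s)

include hp hpε hF' in
lemma exists_val {h : σ →₀ MvPolynomial ι A} (hh : Finsupp.linearCombination _ F h = 0) :
    ∃ b, Val P p r ε F' h b := by
  obtain ⟨h', rfl⟩ := Finsupp.mapRange_surjective _ (map_zero _) (MvPolynomial.map_surjective p hp) h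
  obtain ⟨u, hu⟩ := exists_eps p ε hpε (x := Finsupp.linearCombination _ F' h') (by
    rw [map_lc]
    simp only [hF']
    exact hh)
  exact ⟨_, h', u, rfl, hu, rfl⟩

include hpε hε hF' hF in
lemma Val.unique {h : σ →₀ MvPolynomial ι A} {b c : B₀} (hb : Val P p r ε F' h b) (hc : Val P p r ε F' h c) :
    b = c := by
  obtain ⟨h₁, u₁, e₁, f₁, rfl⟩ := hb
  obtain ⟨h₂, u₂, e₂, f₂, rfl⟩ := hc
  have hd : ∀ s, ∃ v, (h₁ - h₂) s = C ε * v := fun s => exists_eps p ε hpε (by
    have := DFunLike.congr_fun (e₁.trans e₂.symm) s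
    simp only [liftF, Finsupp.mapRange_apply] at this
    rw [Finsupp.sub_apply, map_sub, this, sub_self])
  choose v hv using hd
  have e : C ε * (u₁ - u₂) = C ε * ∑ s ∈ (h₁ - h₂).support, v s * F' s := by
    rw [mul_sub, ← f₁, ← f₂, ← map_sub, Finsupp.linearCombination_apply, Finsupp.sum, Finset.mul_sum]
    refine Finset.sum_congr rfl fun s _ => ?_
    rw [smul_eq_mul, hv, mul_assoc]
  rw [← sub_eq_zero, ← mul_sub] at e
  have h0 := q₀_eq_zero P p r ε hε e
  rw [map_sub, map_sub, map_sum] at h0
  have hz : ∀ s, q₀ P p r (v s * F' s) = 0 := fun s => by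
    rw [map_mul]
    simp only [q₀, RingHom.comp_apply, hF', hF, CotT.algebraMap_rel, mul_zero]
  rw [Finset.sum_eq_zero fun s _ => hz s, sub_zero, sub_eq_zero] at h0
  exact h0

lemma Val.add {h g : σ →₀ MvPolynomial ι A} {b c : B₀} (hb : Val P p r ε F' h b) (hc : Val P p r ε F' g c) :
    Val P p r ε F' (h + g) (b + c) := by
  obtain ⟨h₁, u₁, e₁, f₁, rfl⟩ := hb
  obtain ⟨h₂, u₂, e₂, f₂, rfl⟩ := hc
  exact ⟨h₁ + h₂, u₁ + u₂, by rw [liftF_add, e₁, e₂], by rw [map_add, f₁, f₂, mul_add], map_add _ _ _⟩

include hp in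
lemma Val.smul {h : σ →₀ MvPolynomial ι A} {b : B₀} (hb : Val P p r ε F' h b) (x : MvPolynomial ι A) :
    Val P p r ε F' (x • h) (algebraMap P.toExtension.Ring B₀ (red P r x) * b) := by
  obtain ⟨h₁, u₁, e₁, f₁, rfl⟩ := hb
  obtain ⟨x', rfl⟩ := MvPolynomial.map_surjective p hp x
  refine ⟨x' • h₁, x' * u₁, by rw [liftF_smul, e₁], ?_, ?_⟩
  · rw [map_smul, f₁, smul_eq_mul]
    ring
  · rw [map_mul]
    rfl

lemma Val.zero : Val P p r ε F' 0 0 :=
  ⟨0, 0, by simp [liftF], by simp, map_zero _⟩

/-- Changing the lifts by multiples of `ε` changes the value by the corresponding linear form. -/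
lemma Val.change (w : σ → MvPolynomial ι A') {h : σ →₀ MvPolynomial ι A} {b : B₀}
    (hb : Val P p r ε (fun s => F' s - C ε * w s) h b) :
    Val P p r ε F' h (b + Finsupp.linearCombination P.toExtension.Ring (fun s => q₀ P p r (w s)) (redF P r h)) := by
  obtain ⟨h₁, u₁, e₁, f₁, rfl⟩ := hb
  refine ⟨h₁, u₁ + Finsupp.linearCombination _ w h₁, e₁, ?_, ?_⟩
  · rw [mul_add, ← f₁]
    simp only [Finsupp.linearCombination_apply, Finsupp.sum, Finset.mul_sum, ← Finset.sum_add_distrib,
      smul_eq_mul]
    refine Finset.sum_congr rfl fun s _ => ?_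
    ring
  · rw [map_add]
    congr 1
    rw [← e₁]
    clear e₁ f₁
    induction h₁ using Finsupp.induction_linear with
    | zero => simp [liftF, redF]
    | add a b ha hb => rw [map_add, map_add, ha, hb, liftF_add, redF_add, map_add]
    | single s a =>
      simp only [liftF, redF, Finsupp.mapRange_single, Finsupp.linearCombination_single, smul_eq_mul,
        Algebra.smul_def, map_mul]
      rfl

variable {B : Type u} [CommRing B] [Algebra A B]

lemma red_eq_zero {x : MvPolynomial ι A} (hx : red P r x = 0) :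
    x ∈ RingHom.ker r • (⊤ : Submodule A (MvPolynomial ι A)) := by
  have h : x ∈ (RingHom.ker r).map (C : A →+* MvPolynomial ι A) := by
    rw [← MvPolynomial.ker_map]
    exact hx
  rw [Ideal.smul_top_eq_map]
  exact h

lemma red_smul_top {x : MvPolynomial ι A} (hx : x ∈ RingHom.ker r • (⊤ : Submodule A (MvPolynomial ι A))) :
    red P r x = 0 := by
  refine Submodule.smul_induction_on hx (fun c hc y _ => ?_) (fun y z hy hz => by rw [map_add, hy, hz, add_zero])
  rw [MvPolynomial.smul_eq_C_mul, map_mul]
  show MvPolynomial.map r (C c) * _ = _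
  rw [map_C, RingHom.mem_ker.1 hc, C_0, zero_mul]

lemma redF_smul_top {h : σ →₀ MvPolynomial ι A}
    (hh : h ∈ RingHom.ker r • (⊤ : Submodule A (σ →₀ MvPolynomial ι A))) : redF P r h = 0 := by
  refine Finsupp.ext fun s => ?_
  refine red_smul_top P r ?_
  have hle : Submodule.map (Finsupp.lapply s : (σ →₀ MvPolynomial ι A) →ₗ[A] MvPolynomial ι A)
      (RingHom.ker r • ⊤) ≤ RingHom.ker r • ⊤ := by
    rw [Submodule.map_smul'']
    exact Submodule.smul_mono le_rfl le_top
  exact hle ⟨h, hh, rfl⟩

lemma redF_eq_zero {h : σ →₀ MvPolynomial ι A} (hh : redF P r h = 0) :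
    h ∈ RingHom.ker r • (⊤ : Submodule A (σ →₀ MvPolynomial ι A)) := by
  rw [← h.sum_single]
  refine Submodule.sum_mem _ fun s _ => ?_
  have hle : Submodule.map (Finsupp.lsingle s : MvPolynomial ι A →ₗ[A] (σ →₀ MvPolynomial ι A))
      (RingHom.ker r • ⊤) ≤ RingHom.ker r • ⊤ := by
    rw [Submodule.map_smul'']
    exact Submodule.smul_mono le_rfl le_top
  refine hle ⟨h s, red_eq_zero P r ?_, rfl⟩
  simpa [redF] using DFunLike.congr_fun hh s

include hp hpε hε hF' hF in
/-- A relation over `A` reducing to zero has value zero. -/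
lemma Val.eq_zero (G : MvPolynomial ι A →ₗ[A] (σ →₀ MvPolynomial ι A))
    (hG : ∀ y ∈ LinearMap.range (Finsupp.linearCombination (MvPolynomial ι A) F),
      Finsupp.linearCombination (MvPolynomial ι A) F (G y) = y)
    {h : σ →₀ MvPolynomial ι A} (hh : redF P r h = 0) (hj : Finsupp.linearCombination _ F h = 0)
    {b : B₀} (hb : Val P p r ε F' h b) : b = 0 := by
  let j : (σ →₀ MvPolynomial ι A) →ₗ[A] MvPolynomial ι A :=
    (Finsupp.linearCombination (MvPolynomial ι A) F).restrictScalars A
  let T : (σ →₀ MvPolynomial ι A) →ₗ[A] (σ →₀ MvPolynomial ι A) := LinearMap.id - G ∘ₗ j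
  have hT : ∀ g, Finsupp.linearCombination (MvPolynomial ι A) F (T g) = 0 := fun g => by
    show Finsupp.linearCombination (MvPolynomial ι A) F (g - G (j g)) = 0
    rw [map_sub, hG (j g) ⟨g, rfl⟩]
    exact sub_self _
  have hmem : h ∈ RingHom.ker r • LinearMap.range T := by
    rw [← Submodule.map_top, ← Submodule.map_smul'']
    refine ⟨h, redF_eq_zero P r hh, ?_⟩
    show h - G (j h) = h
    rw [show j h = 0 from hj, map_zero, sub_zero]
  have h0 : Val P p r ε F' h 0 := by
    refine Submodule.smul_induction_on hmem (fun c hc y hy => ?_) (fun y z hy hz => ?_)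
    · obtain ⟨g, rfl⟩ := hy
      obtain ⟨b', hb'⟩ := exists_val P p r ε hp hpε F F' hF' (hT g)
      have := hb'.smul P p r ε hp F' (C c)
      rw [show red P r (C c) = 0 from by
        show MvPolynomial.map r (C c) = 0
        rw [map_C, RingHom.mem_ker.1 hc, C_0], map_zero, zero_mul] at this
      rwa [← algebraMap_smul (MvPolynomial ι A) c, MvPolynomial.algebraMap_eq]
    · simpa using hy.add P p r ε F' hz
  exact Val.unique P p r ε hpε hε F F' hF' hF hb h0

include hp hpε hε in
/-- **Flat algebras lift along small extensions when `T²` of the special fibre vanishes.** -/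
theorem exists_flat_lift (hT2 : Subsingleton (CotT.T2 P B₀)) (hr : Function.Surjective r)
    (hnil : IsNilpotent (RingHom.ker r)) (hεε : ε * ε = 0) [Module.Free A B] (q : B →+* B₀)
    (hqs : Function.Surjective q) (hqA : ∀ a, q (algebraMap A B a) = algebraMap k B₀ (r a))
    (hqk : RingHom.ker q ≤ (RingHom.ker r).map (algebraMap A B)) :
    ∃ (E : Type u) (_ : CommRing E) (_ : Algebra A' E), Module.Flat A' E ∧ ∃ π : E →+* B,
      Function.Surjective π ∧ (∀ a, π (algebraMap A' E a) = algebraMap A B (p a)) ∧
        RingHom.ker π ≤ (RingHom.ker p).map (algebraMap A' E) := by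
  let m := RingHom.ker r
  -- the presentation over `A`
  choose x hx using fun i => hqs (P.val i)
  let aev : MvPolynomial ι A →ₐ[A] B := MvPolynomial.aeval x
  have hqa : ∀ f, q (aev f) = algebraMap P.toExtension.Ring B₀ (red P r f) := by
    have e : q.comp aev.toRingHom = (algebraMap P.toExtension.Ring B₀).comp (red P r) := by
      refine MvPolynomial.ringHom_ext (fun a => ?_) (fun i => ?_)
      · show q (aev (C a)) = algebraMap P.toExtension.Ring B₀ (MvPolynomial.map r (C a))
        rw [map_C, CotT.algebraMap_toExtension]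
        simp [aev, hqA]
      · show q (aev (X i)) = algebraMap P.toExtension.Ring B₀ (MvPolynomial.map r (X i))
        rw [map_X, CotT.algebraMap_toExtension]
        simp [aev, hx]
    exact fun f => congr($e f)
  have hred : Function.Surjective (red P r) := MvPolynomial.map_surjective r hr
  have hmB : ∀ b : B, q b = 0 → b ∈ m • (⊤ : Submodule A B) := fun b hb => by
    rw [Ideal.smul_top_eq_map]
    exact hqk hb
  have haev : Function.Surjective aev := by
    have h : (⊤ : Submodule A B) ≤ LinearMap.range aev.toLinearMap ⊔ m • ⊤ := fun b _ => by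
      obtain ⟨f₀, hf₀⟩ : ∃ f, algebraMap P.toExtension.Ring B₀ f = q b := P.toExtension.algebraMap_surjective _
      obtain ⟨f, rfl⟩ := hred f₀
      refine Submodule.mem_sup.2 ⟨aev f, ⟨f, rfl⟩, b - aev f, hmB _ ?_, by abel⟩
      rw [map_sub, hqa, hf₀, sub_self]
    exact fun b => le_of_le_sup_smul hnil h (Submodule.mem_top (x := b))
  let K : Submodule A (MvPolynomial ι A) := LinearMap.ker aev.toLinearMap
  obtain ⟨sec, hsec⟩ := Module.projective_lifting_property aev.toLinearMap LinearMap.id haev
  let prK : MvPolynomial ι A →ₗ[A] K :=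
    (LinearMap.id - sec ∘ₗ aev.toLinearMap).codRestrict K (fun f => by
      have := LinearMap.congr_fun hsec (aev.toLinearMap f)
      simp only [K, LinearMap.mem_ker, LinearMap.sub_apply, map_sub, LinearMap.comp_apply, LinearMap.id_apply] at this ⊢
      rw [this, sub_self])
  have hprK : prK ∘ₗ K.subtype = LinearMap.id := by
    refine LinearMap.ext fun f => Subtype.ext ?_
    show f.1 - sec (aev.toLinearMap f.1) = f.1
    rw [show aev.toLinearMap f.1 = 0 from f.2, map_zero, sub_zero]
  haveI : Module.Projective A K := Module.Projective.of_split K.subtype prK hprK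
  have hKm : ∀ f, aev f = 0 → red P r f = 0 → f ∈ m • K := fun f hf hf' => by
    have h1 : (prK f).1 ∈ Submodule.map (K.subtype ∘ₗ prK) (m • ⊤) := ⟨f, red_eq_zero P r hf', rfl⟩
    rw [Submodule.map_smul''] at h1
    have h2 : (prK f).1 = f := by
      show f - sec (aev.toLinearMap f) = f
      rw [show aev.toLinearMap f = 0 from hf, map_zero, sub_zero]
    rw [h2] at h1
    exact Submodule.smul_mono le_rfl (by rintro _ ⟨g, -, rfl⟩; exact (prK g).2) h1
  have hF : ∀ s, ∃ f, aev f = 0 ∧ red P r f = CotT.rel P s := fun s => by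
    obtain ⟨f₀, hf₀⟩ := hred (CotT.rel P s)
    have h1 : aev f₀ ∈ Submodule.map aev.toLinearMap (m • ⊤) := by
      rw [Submodule.map_smul'', Submodule.map_top, LinearMap.range_eq_top.2 haev]
      refine hmB _ ?_
      rw [hqa, hf₀, CotT.algebraMap_rel]
    obtain ⟨g, hg, hge⟩ := h1
    exact ⟨f₀ - g, by rw [map_sub]; exact sub_eq_zero.2 hge.symm,
      by rw [map_sub, hf₀, red_smul_top P r hg, sub_zero]⟩
  choose F hFK hFr using hF
  let j := Finsupp.linearCombination (MvPolynomial ι A) F
  have hjr : LinearMap.range (j.restrictScalars A) = K := by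
    refine le_antisymm ?_ (le_of_le_sup_smul hnil fun f hf => ?_)
    · rintro _ ⟨h, rfl⟩
      show aev (j h) = 0
      rw [← AlgHom.coe_toRingHom, map_lc]
      simp only [AlgHom.coe_toRingHom, hFK]
      simp [Finsupp.linearCombination_apply]
    · obtain ⟨g₀, hg₀⟩ : red P r f ∈ LinearMap.range (CotT.jmap P) := by
        rw [CotT.range_jmap]
        show algebraMap P.toExtension.Ring B₀ _ = 0
        rw [← hqa, show aev f = 0 from hf, map_zero]
      obtain ⟨g, rfl⟩ := Finsupp.mapRange_surjective _ (map_zero _) hred g₀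
      refine Submodule.mem_sup.2 ⟨j g, ⟨g, rfl⟩, f - j g, hKm _ ?_ ?_, by abel⟩
      · rw [map_sub, show aev f = 0 from hf, zero_sub, neg_eq_zero]
        rw [← AlgHom.coe_toRingHom, map_lc]
        simp only [AlgHom.coe_toRingHom, hFK]
        simp [Finsupp.linearCombination_apply]
      · rw [map_sub, map_lc, sub_eq_zero, ← hg₀]
        simp only [hFr]
        rfl
  let jK : (σ →₀ MvPolynomial ι A) →ₗ[A] K :=
    (j.restrictScalars A).codRestrict K (fun h => hjr.le ⟨h, rfl⟩)
  obtain ⟨g, hg⟩ := Module.projective_lifting_property jK LinearMap.id (fun y => by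
    obtain ⟨h, hh⟩ := hjr.ge y.2
    exact ⟨h, Subtype.ext hh⟩)
  let G : MvPolynomial ι A →ₗ[A] (σ →₀ MvPolynomial ι A) := g ∘ₗ prK
  have hG : ∀ y ∈ LinearMap.range j, j (G y) = y := by
    rintro y ⟨h, rfl⟩
    have h1 : prK (j h) = jK h := by
      exact LinearMap.congr_fun hprK (jK h)
    show j (g (prK (j h))) = j h
    rw [h1]
    exact congrArg Subtype.val (LinearMap.congr_fun hg (jK h))
  -- relations lift
  have hrel : ∀ t : CotT.relKer P, ∃ h, redF P r h = t.1 ∧ j h = 0 := fun t => by
    obtain ⟨h₀, hh₀⟩ := Finsupp.mapRange_surjective (red P r) (map_zero _) hred t.1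
    refine ⟨h₀ - G (j h₀), ?_, by rw [map_sub, hG _ ⟨_, rfl⟩, sub_self]⟩
    have h1 : red P r (j h₀) = 0 := by
      rw [map_lc]
      simp only [hFr]
      rw [hh₀]
      exact t.2
    have h2 : G (j h₀) ∈ m • (⊤ : Submodule A (σ →₀ MvPolynomial ι A)) := by
      have : G (j h₀) ∈ Submodule.map G (m • ⊤) := ⟨_, red_eq_zero P r h1, rfl⟩
      rw [Submodule.map_smul''] at this
      exact Submodule.smul_mono le_rfl le_top this
    rw [redF_sub, redF_smul_top P r h2, sub_zero]
    exact hh₀
  choose lh hlh hlh0 using hrel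
  choose F' hF' using fun s => MvPolynomial.map_surjective p hp (F s)
  choose v hv using fun t => exists_val P p r ε hp hpε F F' hF' (hlh0 t)
  have hval : ∀ {t : CotT.relKer P} {h : σ →₀ MvPolynomial ι A} {b : B₀},
      redF P r h = t.1 → j h = 0 → Val P p r ε F' h b → b = v t := by
    intro t h b h1 h2 h3
    obtain ⟨c, hc⟩ := exists_val P p r ε hp hpε F F' hF' (h := h - lh t) (by
      rw [map_sub]; exact sub_eq_zero.2 (h2.trans (hlh0 t).symm))
    have hc0 := Val.eq_zero P p r ε hp hpε hε F F' hF' hFr G hG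
      (by rw [redF_sub, h1, hlh, sub_self]) (by rw [map_sub]; exact sub_eq_zero.2 (h2.trans (hlh0 t).symm)) hc
    have := hc.add P p r ε F' (hv t)
    rw [sub_add_cancel, hc0, zero_add] at this
    exact Val.unique P p r ε hpε hε F F' hF' hFr h3 this
  -- the obstruction as a linear form
  let φ : CotT.relKer P →ₗ[P.toExtension.Ring] B₀ :=
    { toFun := v
      map_add' := fun t t' => (hval (t := t + t') (by rw [redF_add, hlh, hlh]; rfl)
        (by rw [map_add, hlh0, hlh0, add_zero]) ((hv t).add P p r ε F' (hv t'))).symm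
      map_smul' := fun c t => by
        obtain ⟨c, rfl⟩ := hred c
        refine (hval (t := red P r c • t) ?_ ?_ ((hv t).smul P p r ε hp F' c)).symm.trans
          (Algebra.smul_def _ _).symm
        · rw [redF_smul, hlh]; rfl
        · rw [map_smul, hlh0, smul_zero] }
  have hφtriv : ∀ y ∈ CotT.trivRel P, ∀ hy : y ∈ CotT.relKer P, φ ⟨y, hy⟩ = 0 := by
    intro y hy
    induction hy using Submodule.span_induction with
    | zero => exact fun _ => map_zero φ
    | add a b ha hb iha ihb =>
      intro _
      have := map_add φ ⟨a, CotT.trivRel_le_relKer P ha⟩ ⟨b, CotT.trivRel_le_relKer P hb⟩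
      rw [iha, ihb, add_zero] at this
      exact this
    | smul c a ha iha =>
      intro _
      have := map_smul φ c ⟨a, CotT.trivRel_le_relKer P ha⟩
      rw [iha, smul_zero] at this
      exact this
    | mem y hy =>
      intro hy'
      obtain ⟨a₀, b₀, rfl⟩ := hy
      have hsur : Function.Surjective (red P r ∘ MvPolynomial.map p) :=
        hred.comp (MvPolynomial.map_surjective p hp)
      obtain ⟨a, ha⟩ := Finsupp.mapRange_surjective (red P r ∘ MvPolynomial.map p) (by simp) hsur a₀
      obtain ⟨b, hb⟩ := Finsupp.mapRange_surjective (red P r ∘ MvPolynomial.map p) (by simp) hsur b₀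
      have ha' : redF P r (liftF p a) = a₀ := by
        rw [← ha]; ext s : 1; simp [redF, liftF]
      have hb' : redF P r (liftF p b) = b₀ := by
        rw [← hb]; ext s : 1; simp [redF, liftF]
      have hjm : ∀ c, MvPolynomial.map p (Finsupp.linearCombination _ F' c) = j (liftF p c) := fun c => by
        rw [map_lc]; simp only [hF']; rfl
      have hjr' : ∀ c, red P r (j c) = CotT.jmap P (redF P r c) := fun c => by
        rw [map_lc]; simp only [hFr]; rfl
      let h' := Finsupp.linearCombination _ F' a • b - Finsupp.linearCombination _ F' b • a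
      refine (hval (t := ⟨_, hy'⟩) (h := liftF p h') (b := 0) ?_ ?_ ⟨h', 0, rfl, ?_, map_zero _⟩).symm
      · simp only [h', liftF_sub, liftF_smul, redF_sub, redF_smul, hjm, hjr', ha', hb']
      · rw [← hjm]
        simp [h', mul_comm]
      · simp [h', mul_comm]
  have hker : LinearMap.range ((CotT.trivRelKer P).subtype.baseChange B₀) ≤
      LinearMap.ker (φ.liftBaseChange B₀) := by
    rw [LinearMap.range_le_ker_iff]
    refine TensorProduct.AlgebraTensorModule.ext fun b t => ?_
    simp only [LinearMap.coe_comp, Function.comp_apply, LinearMap.baseChange_tmul, Submodule.coe_subtype,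
      LinearMap.zero_apply, LinearMap.liftBaseChange_tmul]
    rw [show φ t.1 = 0 from hφtriv _ t.2 t.1.2, smul_zero]
  let Φ : CotT.L2 P →ₗ[B₀] B₀ := Submodule.liftQ _ (φ.liftBaseChange B₀) hker
  obtain ⟨ψ, hψ⟩ : Φ ∈ LinearMap.range (CotT.d2Star P B₀) :=
    (Submodule.Quotient.mk_eq_zero _).1 (hT2.elim _ _)
  let c : σ → B₀ := fun s => ψ ((1 : B₀) ⊗ₜ Finsupp.single s (1 : P.toExtension.Ring))
  have hψc : ∀ u : CotT.relMod P, ψ ((1 : B₀) ⊗ₜ u) = Finsupp.linearCombination P.toExtension.Ring c u := by
    intro u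
    induction u using Finsupp.induction_linear with
    | zero => simp
    | add a b ha hb => rw [tmul_add, map_add, ha, hb, map_add]
    | single s a =>
      rw [Finsupp.linearCombination_single, ← Finsupp.smul_single_one, tmul_smul, LinearMap.map_smul_of_tower]
  have hv' : ∀ t : CotT.relKer P, v t = Finsupp.linearCombination P.toExtension.Ring c t.1 := fun t => by
    have := LinearMap.congr_fun hψ (Submodule.Quotient.mk ((1 : B₀) ⊗ₜ t))
    rw [CotT.d2Star_apply, LinearMap.comp_apply, CotT.d2_mk_tmul, hψc] at this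
    rw [this]
    simp only [Φ, Submodule.liftQ_apply, LinearMap.liftBaseChange_tmul, one_smul]
    rfl
  have hq₀ : Function.Surjective (q₀ P p r) :=
    (P.toExtension.algebraMap_surjective).comp (hred.comp (MvPolynomial.map_surjective p hp))
  choose w hw using fun s => hq₀ (c s)
  -- the modified lifts
  let F'' : σ → MvPolynomial ι A' := fun s => F' s - C ε * w s
  have hpe : p ε = 0 := by
    rw [← RingHom.mem_ker, hpε]
    exact Ideal.mem_span_singleton_self ε
  have hF'' : ∀ s, MvPolynomial.map p (F'' s) = F s := fun s => by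
    simp [F'', hpe, hF']
  let I : Submodule (MvPolynomial ι A') (MvPolynomial ι A') := LinearMap.range (Finsupp.linearCombination _ F'')
  have hI : ∀ u, C ε * u ∈ I → q₀ P p r u = 0 := by
    rintro u ⟨h', hh'⟩
    have hj : j (liftF p h') = 0 := by
      have := congrArg (MvPolynomial.map p) hh'
      rw [map_lc] at this
      simp only [hF'', map_mul, map_C, hpe, C_0, zero_mul] at this
      exact this
    have hb : Val P p r ε F'' (liftF p h') (q₀ P p r u) := ⟨h', u, rfl, hh', rfl⟩
    have hb' := hb.change P p r ε F' w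
    simp only [hw] at hb'
    have ht : redF P r (liftF p h') ∈ CotT.relKer P := by
      show CotT.jmap P _ = 0
      rw [← map_zero (red P r), ← hj, map_lc]
      simp only [hFr]
      rfl
    have := hval (t := ⟨_, ht⟩) rfl hj hb'
    rwa [hv', add_eq_right] at this
  let E : Type u := MvPolynomial ι A' ⧸ (I : Ideal (MvPolynomial ι A'))
  let mk : MvPolynomial ι A' →+* E := Ideal.Quotient.mk _
  let π₀ : MvPolynomial ι A' →+* B := aev.toRingHom.comp (MvPolynomial.map p)
  have hπ₀ : ∀ f ∈ (I : Ideal (MvPolynomial ι A')), π₀ f = 0 := by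
    rintro _ ⟨h', rfl⟩
    show aev (MvPolynomial.map p _) = 0
    rw [map_lc]
    simp only [hF'']
    exact hjr.le ⟨_, rfl⟩
  let π : E →+* B := Ideal.Quotient.lift _ π₀ hπ₀
  have hπ : ∀ f, π (mk f) = aev (MvPolynomial.map p f) := fun f => rfl
  have hπA : ∀ a, π (algebraMap A' E a) = algebraMap A B (p a) := fun a => by
    show aev (MvPolynomial.map p (C a)) = _
    rw [map_C]
    exact aev.commutes _
  have hπs : Function.Surjective π := fun b => by
    obtain ⟨f, rfl⟩ := haev b
    obtain ⟨f, rfl⟩ := MvPolynomial.map_surjective p hp f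
    exact ⟨mk f, rfl⟩
  have hπk : ∀ e, π e = 0 → ∃ e', e = algebraMap A' E ε * e' := fun e he => by
    obtain ⟨f, rfl⟩ := Ideal.Quotient.mk_surjective e
    obtain ⟨h, hh⟩ := hjr.ge (show MvPolynomial.map p f ∈ K from he)
    obtain ⟨h', rfl⟩ := Finsupp.mapRange_surjective _ (map_zero _) (MvPolynomial.map_surjective p hp) h
    obtain ⟨u, hu⟩ := exists_eps p ε hpε (x := f - Finsupp.linearCombination _ F'' h') (by
      rw [map_sub, map_lc, sub_eq_zero]
      simp only [hF'']
      exact hh.symm)
    refine ⟨mk u, ?_⟩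
    show mk f = mk (C ε) * mk u
    rw [← map_mul, ← hu]
    refine (Ideal.Quotient.mk_eq_mk_iff_sub_mem _ _).2 ?_
    rw [sub_sub_cancel]
    exact ⟨h', rfl⟩
  refine ⟨E, inferInstance, inferInstance, ?_, π, hπs, hπA, fun e he => ?_⟩
  · obtain ⟨⟨κ, bB⟩⟩ := Module.Free.exists_basis (R := A) (M := B)
    choose e he using fun i => hπs (bB i)
    let φE : (κ →₀ A') →ₗ[A'] E := Finsupp.linearCombination A' e
    have hsm : ∀ (a : A') (y : E), a • y = algebraMap A' E a * y := fun a y => Algebra.smul_def a y
    have hπφ : ∀ l, π (φE l) = bB.repr.symm (Finsupp.mapRange p (map_zero p) l) := fun l => by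
      induction l using Finsupp.induction_linear with
      | zero => simp
      | add a b ha hb => rw [map_add, map_add, ha, hb, Finsupp.mapRange_add (map_add p), map_add]
      | single i a =>
        simp [φE, hsm, hπA, he, Finsupp.mapRange_single, Module.Basis.repr_symm_apply, Algebra.smul_def (A := B)]
    have hφs : ∀ y, ∃ l z, y = φE l + algebraMap A' E ε * z := fun y => by
      obtain ⟨l, hl⟩ := Finsupp.mapRange_surjective _ (map_zero p) hp (bB.repr (π y))
      obtain ⟨z, hz⟩ := hπk (y - φE l) (by rw [map_sub, hπφ, hl, LinearEquiv.symm_apply_apply, sub_self])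
      exact ⟨l, z, by rw [← hz]; abel⟩
    have hsurj : Function.Surjective φE := fun y => by
      obtain ⟨l, z, rfl⟩ := hφs y
      obtain ⟨l', z', rfl⟩ := hφs z
      refine ⟨l + ε • l', ?_⟩
      rw [map_add, map_smul, hsm, mul_add, ← mul_assoc, ← map_mul, hεε, map_zero, zero_mul, add_zero]
    have hinj : Function.Injective φE := (injective_iff_map_eq_zero _).2 fun l hl => by
      have h1 := hπφ l
      rw [hl, map_zero, eq_comm, LinearEquiv.map_eq_zero_iff] at h1
      have h2 : ∀ i, ∃ a, l i = a * ε := fun i => by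
        have : l i ∈ RingHom.ker p := DFunLike.congr_fun h1 i
        rw [hpε, Ideal.mem_span_singleton'] at this
        obtain ⟨a, ha⟩ := this
        exact ⟨a, ha.symm⟩
      choose a ha using h2
      let l₁ : κ →₀ A' := Finsupp.indicator l.support fun i _ => a i
      have hl₁ : l = ε • l₁ := by
        ext i
        by_cases hi : i ∈ l.support
        · rw [Finsupp.smul_apply, smul_eq_mul, ha i]
          simp only [l₁, Finsupp.indicator_of_mem hi]
          exact mul_comm _ _
        · rw [Finsupp.smul_apply, smul_eq_mul, Finsupp.notMem_support_iff.1 hi]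
          simp only [l₁, Finsupp.indicator_of_notMem hi, mul_zero]
      obtain ⟨f, hf⟩ := Ideal.Quotient.mk_surjective (φE l₁)
      have h3 : q₀ P p r f = 0 := hI f (Ideal.Quotient.eq_zero_iff_mem.1 (by
        rw [map_mul, hf, ← hl, hl₁, map_smul, hsm]
        rfl))
      have h4 : π (φE l₁) ∈ m • (⊤ : Submodule A B) := hmB _ (by
        rw [← hf]
        show q (aev (MvPolynomial.map p f)) = 0
        rw [hqa]
        exact h3)
      have h5 : ∀ i, bB.repr (π (φE l₁)) i ∈ m := fun i => by
        refine Submodule.smul_induction_on h4 (fun c hc y _ => ?_) (fun y z hy hz => ?_)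
        · rw [map_smul, Finsupp.smul_apply]
          exact Ideal.mul_mem_right _ _ hc
        · rw [map_add, Finsupp.add_apply]
          exact add_mem hy hz
      refine Finsupp.ext fun i => ?_
      have h6 := h5 i
      rw [hπφ, LinearEquiv.apply_symm_apply, Finsupp.mapRange_apply] at h6
      rw [hl₁, Finsupp.smul_apply, smul_eq_mul, mul_comm, (hε _).2 h6, Finsupp.zero_apply]
    haveI := Module.Free.of_equiv (LinearEquiv.ofBijective φE ⟨hinj, hsurj⟩)
    infer_instance
  · obtain ⟨e', rfl⟩ := hπk e he
    refine Ideal.mul_mem_right _ _ (Ideal.mem_map_of_mem _ ?_)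
    rw [hpε]
    exact Ideal.mem_span_singleton_self ε

end DefLib.Unobs
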